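import Cfsg.Agent.RecogNine.Main
import Cfsg.Agent.Lib.Cores.Basic
import Cfsg.Prelude.Def_Solvable

/-!
# The largest normal 3-subgroup of the table group
-/

set_option autoImplicit false
set_option maxRecDepth 20000
set_option linter.style.haveILetI false

namespace Cfsg.Agent.RecogNine

theorem pow_nine : ∀ x : W, x ^ 81 = 1 → x ^ 9 = 1 := by decide +kernel

theorem not_three_element : ∀ a : W, a.s ≠ 0 → a ^ 9 = 1 →
    ∃ s : Fin 24, (ofN (s : ℕ) * a * (ofN (s : ℕ))⁻¹ * a⁻¹) ^ 9 ≠ 1 := by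
  decide +kernel

theorem pow_nine_of_pGroup {N : Subgroup W} (hN : IsPGroup 3 N) {x : W} (hx : x ∈ N) :
    x ^ 9 = 1 := by
  refine pow_nine x ?_
  obtain ⟨k, hk⟩ := hN ⟨x, hx⟩
  have hk' : x ^ 3 ^ k = 1 := congrArg Subtype.val hk
  obtain ⟨i, -, hi⟩ := (Nat.dvd_prime_pow Nat.prime_three).1 (orderOf_dvd_of_pow_eq_one hk')
  have h648 : orderOf x ∣ 648 := card_W ▸ orderOf_dvd_natCard x
  rw [hi] at h648
  have hi4 : i ≤ 4 := by
    by_contra hc
    have := (pow_dvd_pow 3 (show 5 ≤ i by omega)).trans h648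
    norm_num at this
  refine orderOf_dvd_iff_pow_eq_one.1 ?_
  rw [hi, show (81 : ℕ) = 3 ^ 4 by norm_num]
  exact pow_dvd_pow 3 hi4

theorem pCore_W : Cfsg.pCore 3 W = Jm := by
  apply le_antisymm
  · refine sSup_le ?_
    rintro N ⟨hn, hp⟩ a ha
    by_contra hs
    obtain ⟨s, hs⟩ := not_three_element a hs (pow_nine_of_pGroup hp ha)
    exact hs (pow_nine_of_pGroup hp (mul_mem (hn.conj_mem a ha _) (inv_mem ha)))
  · refine le_sSup ⟨Jm_normal, fun x => ⟨1, Subtype.ext ?_⟩⟩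
    simpa using Jm_cube x.2

end Cfsg.Agent.RecogNine
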