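import Mathlib

/-!
# The degree equations

The relations between signed degrees and normalised values at the two classes of involutions
force one of the degrees to be three, and exclude the other configurations.
-/

set_option autoImplicit false

namespace Cfsg.Agent.RecogNine

/-- The configuration of the subgroup itself: one of the degrees is three. -/
theorem degree_three {P Q T k h k' g : ℝ} (hP : P ≠ 0) (hQ : Q ≠ 0) (hT : T ≠ 0)
    (hL : P + Q ≠ 0) (hR : T + P + Q ≠ 0) (ha : 1 + T + Q ≠ 0) (hb : 1 + T + 2 * P + Q ≠ 0)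
    (e1 : g ^ 2 / P + g ^ 2 / Q = 2 / 3)
    (e2 : h ^ 2 / T - h ^ 2 / (T + P + Q) = 8 / 3)
    (e3a : k ^ 2 + h ^ 2 / T - (k + h) ^ 2 / (1 + T + Q) = 8 / 3)
    (e3b : k * k' - (k + h) * (k' - g) / (1 + T + Q) = 4 / 3)
    (e3c : k' ^ 2 + g ^ 2 / Q - (k' - g) ^ 2 / (1 + T + Q) = 4 / 3)
    (e5a : k ^ 2 + h ^ 2 / (T + P + Q) - (k + h) ^ 2 / (1 + T + 2 * P + Q) = 4 / 3)
    (e5b : k * k' - (k + h) * (k' + g) / (1 + T + 2 * P + Q) = 2 / 3)
    (e5c : k' ^ 2 + g ^ 2 / P - (k' + g) ^ 2 / (1 + T + 2 * P + Q) = 1) :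
    P = 3 := by
  obtain ⟨R, hRdef⟩ : ∃ R, R = T + P + Q := ⟨_, rfl⟩
  obtain ⟨s, hsdef⟩ : ∃ s, s = 1 + R := ⟨_, rfl⟩
  obtain ⟨m, hmdef⟩ : ∃ m, m = k + h := ⟨_, rfl⟩
  have hR' : R ≠ 0 := by rw [hRdef]; exact hR
  have ha0 : 1 + T + Q = s - P := by rw [hsdef, hRdef]; ring
  have hb0 : 1 + T + 2 * P + Q = s + P := by rw [hsdef, hRdef]; ring
  rw [ha0] at ha e3a e3b e3c
  rw [hb0] at hb e5a e5b e5c
  rw [← hRdef] at e2 e5a
  rw [← hmdef] at e3a e3b e5a e5b
  have hm : 3 * P * m ^ 2 = 2 * (s - P) * (s + P) := by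
    have : m ^ 2 / (s - P) - m ^ 2 / (s + P) = 4 / 3 := by linarith
    field_simp at this
    linarith
  have hm0 : m ≠ 0 := by
    intro h0
    rw [h0] at hm
    exact mul_ne_zero (mul_ne_zero two_ne_zero ha) hb (by linarith)
  have hk' : k' * P = g * s - P * m / 2 := by
    have h1 : m * (k' + g) * (s - P) - m * (k' - g) * (s + P) = 2 / 3 * ((s - P) * (s + P)) := by
      have : m * (k' + g) / (s + P) - m * (k' - g) / (s - P) = 2 / 3 := by linarith
      field_simp at this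
      linarith
    apply mul_left_cancel₀ hm0
    linear_combination (-1 / 2 : ℝ) * h1 + (1 / 6 : ℝ) * hm
  have hRs : R = s - 1 := by rw [hsdef]; ring
  have h4 : (k ^ 2 * R + (m - k) ^ 2) * (s - P) = m ^ 2 * R := by
    have h4 : k ^ 2 + h ^ 2 / R = m ^ 2 / (s - P) := by linarith
    rw [show h = m - k by linarith] at h4
    field_simp at h4
    linarith
  have hn : 3 * (s * k - m) ^ 2 = 2 * R * (s + P) := by
    apply mul_left_cancel₀ ha
    subst hRs
    linear_combination 3 * s * h4 + (s - 1) * hm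
  have hg : 6 * g ^ 2 * s * R - 6 * P * g * m * R + P * (s - P) * (s + P - 1) = 6 * P ^ 2 := by
    have h5 : (k' * P) ^ 2 * (s + P) + g ^ 2 * P * (s + P) - (k' * P + g * P) ^ 2
        = P ^ 2 * (s + P) := by
      field_simp at e5c
      linear_combination P * e5c
    rw [hk'] at h5
    apply mul_left_cancel₀ hb
    subst hRs
    linear_combination 6 * h5 - P * (s + P - 1) / 2 * hm
  have hB0 : 6 * (k * (g * s - P * m / 2) - m * g) + 2 * (s - 3 * P) = 0 := by
    have h3 : k * (k' * P) * (s - P) - m * (k' * P - g * P) = 4 / 3 * (P * (s - P)) := by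
      field_simp at e3b
      linear_combination (P / 3) * e3b
    rw [hk'] at h3
    apply mul_left_cancel₀ ha
    linear_combination 6 * h3 - hm
  have hB : 3 * (s * k - m) * (2 * g * s - P * m) = 2 * P * (3 * s - P) := by
    linear_combination s * hB0 + hm
  have hA : 3 * R * (2 * g * s - P * m) ^ 2 = 2 * P ^ 2 * (5 * s + P) := by
    subst hRs
    linear_combination 2 * s * hg + (s - 1) * P * hm
  have hsP : s * (s - 3 * P) = 0 := by
    have h6 : R * (2 * P * (3 * s - P)) ^ 2 = (2 * R * (s + P)) * (2 * P ^ 2 * (5 * s + P)) := by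
      rw [← hn, ← hA, ← hB]; ring
    have h7 : 16 * R * P ^ 2 * (s * (s - 3 * P)) = 0 := by linear_combination h6
    simpa [hR', hP] using h7
  rcases mul_eq_zero.1 hsP with hs | hs
  · exfalso
    subst hs
    have hR1 : R = -1 := by linarith
    subst hR1
    have h8 : 3 * m ^ 2 = -2 * P := mul_left_cancel₀ hP (by linear_combination hm)
    have h9 : 6 * g * m = P * (P + 5) := mul_left_cancel₀ hP (by linear_combination hg)
    have h10 : 3 * k * m = -(P + 11) := mul_left_cancel₀ hP (by linear_combination -hB0 - h9)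
    apply mul_ne_zero hP (show (24 : ℝ) ≠ 0 by norm_num)
    linear_combination -3 * h4 + 2 * P * h10 - (P - 1) * h8
  · obtain rfl : s = 3 * P := by linarith
    obtain ⟨n, hndef⟩ : ∃ n, n = 3 * P * k - m := ⟨_, rfl⟩
    rw [← hndef] at hn hB
    have hm' : 3 * m ^ 2 = 16 * P := mul_left_cancel₀ hP (by linear_combination hm)
    have hn' : 3 * n ^ 2 = 8 * R * P := by linarith
    have hn0 : n ≠ 0 := by
      intro h0; subst h0
      simp [hR', hP] at hn'
    have hgR : 6 * g * R = 2 * n + m * R := by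
      apply mul_left_cancel₀ hP
      apply mul_left_cancel₀ hn0
      linear_combination (R / 3) * hB - (2 * P / 3) * hn'
    have hh : 3 * P * h = m * R - n := by rw [hndef, hRs, hmdef]; ring
    have hg2 : 108 * R * g ^ 2 = 32 * P + 12 * (m * n) + 16 * P * R := by
      apply mul_left_cancel₀ hR'
      linear_combination 3 * (6 * g * R + (2 * n + m * R)) * hgR + 4 * hn' + R ^ 2 * hm'
    have hh2 : 27 * P ^ 2 * h ^ 2 = R * (16 * P * R - 6 * (m * n) + 8 * P) := by
      linear_combination 3 * (3 * P * h + (m * R - n)) * hh + R ^ 2 * hm' + hn'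
    obtain ⟨L, hLdef⟩ : ∃ L, L = P + Q := ⟨_, rfl⟩
    have e1' : 3 * g ^ 2 * L = 2 * P * Q := by
      field_simp at e1
      rw [hLdef]; linarith
    have e2' : 3 * h ^ 2 * L = 8 * T * R := by
      field_simp at e2
      rw [hLdef]
      linear_combination e2 - 3 * h ^ 2 * hRdef
    have hL' : L ≠ 0 := by rw [hLdef]; exact hL
    have h11 : 12 * g ^ 2 * R ^ 2 + 3 * h ^ 2 * P ^ 2 = 8 * P * R * (R - P) := by
      apply mul_left_cancel₀ hL'
      rw [hLdef] at e1' e2' ⊢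
      linear_combination 4 * R ^ 2 * e1' + P ^ 2 * e2' - 8 * P ^ 2 * R * hRdef
    have h12 : 3 * (m * n) = P * (24 * P - 40) := by
      apply mul_left_cancel₀ hR'
      linear_combination (9 / 2 : ℝ) * h11 - (R / 2) * hg2 - (1 / 2 : ℝ) * hh2 + 20 * P * R * hRs
    have h13 : (P - 1) * (P - 3) = 0 := by
      have : 576 * P ^ 2 * ((P - 1) * (P - 3)) = 0 := by
        linear_combination (-(3 * (m * n) + P * (24 * P - 40))) * h12 + 3 * n ^ 2 * hm' +
          16 * P * hn' + 128 * P ^ 2 * hRs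
      simpa [hP] using this
    rcases mul_eq_zero.1 h13 with h1 | h1
    · exfalso
      obtain rfl : P = 1 := by linarith
      have hR2 : R = 2 := by linarith
      subst hR2
      have hg0 : g = 0 := by
        have : g ^ 2 = 0 := by linarith
        simpa using this
      rw [hg0] at e1
      norm_num at e1
    · linarith

/-- The coefficient configuration with the conjugate pairs in the last combination. -/
theorem no_first {T L k h k' : ℝ} (hT : T ≠ 0) (hL : L ≠ 0) (hR : T + L ≠ 0)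
    (hdeg : 1 = 2 * L + (T + L)) (e2 : h ^ 2 / T - h ^ 2 / (T + L) = 8 / 3)
    (a : k ^ 2 - h ^ 2 / (T + L) = 4 / 3) (b : k * k' = 2 / 3) (c : k' ^ 2 = 1) :
    8 * L = 3 := by
  have hk : k ^ 2 = 4 / 9 := by
    have : (k * k') ^ 2 = 4 / 9 := by rw [b]; norm_num
    rw [mul_pow, c, mul_one] at this
    exact this
  have h2 : h ^ 2 = -8 / 9 * (T + L) := by
    have : h ^ 2 / (T + L) = -8 / 9 := by linarith
    rwa [div_eq_iff hR] at this
  rw [h2] at e2
  field_simp at e2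
  nlinarith

theorem no_second {P Q T k h k' g : ℝ} (hP : P ≠ 0) (hQ : Q ≠ 0) (hT : T ≠ 0)
    (hR : T + P + Q ≠ 0) (ha : 1 + T + Q ≠ 0) (hdeg : 1 + Q = T + (T + P + Q))
    (e1 : g ^ 2 / P + g ^ 2 / Q = 2 / 3)
    (e2 : h ^ 2 / T - h ^ 2 / (T + P + Q) = 8 / 3)
    (e3a : k ^ 2 + h ^ 2 / T - (k + h) ^ 2 / (1 + T + Q) = 8 / 3)
    (e3b : k * k' - (k + h) * (k' - g) / (1 + T + Q) = 4 / 3)
    (e3c : k' ^ 2 + g ^ 2 / Q - (k' - g) ^ 2 / (1 + T + Q) = 4 / 3)
    (a : k ^ 2 - h ^ 2 / T - h ^ 2 / (T + P + Q) = 4 / 3) (b : k * k' = 2 / 3)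
    (c : k' ^ 2 + g ^ 2 / Q = 1) : False := by
  obtain ⟨R, hRdef⟩ : ∃ R, R = T + P + Q := ⟨_, rfl⟩
  obtain ⟨A, hAdef⟩ : ∃ A, A = 1 + T + Q := ⟨_, rfl⟩
  rw [← hRdef] at hR hdeg e2 a
  rw [← hAdef] at ha e3a e3b e3c
  have h1 : (k' - g) ^ 2 / A = -1 / 3 := by linarith
  have h2 : (k + h) * (k' - g) / A = -2 / 3 := by linarith
  have h3 : (k + h) ^ 2 / A = -4 / 3 := by
    have h4 : ((k + h) * (k' - g) / A) ^ 2 = (k + h) ^ 2 / A * ((k' - g) ^ 2 / A) := by
      field_simp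
    rw [h1, h2] at h4
    linarith
  have hTR : h ^ 2 * (2 * R + T) = 0 := by
    have : 2 * (h ^ 2 / T) + h ^ 2 / R = 0 := by linarith
    field_simp at this
    linarith
  have hh : h ≠ 0 := by
    intro h0; rw [h0] at e2; norm_num at e2
  have hT2 : T = -2 * R := by
    rcases mul_eq_zero.1 hTR with h5 | h5
    · exact absurd (by simpa using h5) hh
    · linarith
  rw [hT2] at e2 a
  have h6 : h ^ 2 / R = -16 / 9 := by
    have : h ^ 2 / (-2 * R) = -(h ^ 2 / R) / 2 := by field_simp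
    rw [this] at e2
    linarith
  have h7 : h ^ 2 / (-2 * R) = 8 / 9 := by
    have : h ^ 2 / (-2 * R) = -(h ^ 2 / R) / 2 := by field_simp
    linarith
  have hk : k ^ 2 = 4 / 9 := by linarith
  have hk' : k' ^ 2 = 1 := by
    have : (k * k') ^ 2 = 4 / 9 := by rw [b]; norm_num
    rw [mul_pow, hk] at this
    linarith
  have hg : g ^ 2 = 0 := by
    have : g ^ 2 / Q = 0 := by linarith
    simpa [hQ] using this
  rw [hg] at e1
  norm_num at e1

theorem no_third {P Q T k h k' g : ℝ}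
    (e2 : h ^ 2 / T - h ^ 2 / (T + P + Q) = 8 / 3) (ha : 1 + T + Q ≠ 0)
    (e3a : k ^ 2 + h ^ 2 / T - (k + h) ^ 2 / (1 + T + Q) = 8 / 3)
    (e3b : k * k' - (k + h) * (k' - g) / (1 + T + Q) = 4 / 3)
    (e3c : k' ^ 2 + g ^ 2 / Q - (k' - g) ^ 2 / (1 + T + Q) = 4 / 3)
    (a : k ^ 2 + h ^ 2 / (T + P + Q) + (k + h) ^ 2 / (1 + T + Q) = 4 / 3)
    (b : k * k' + (k + h) * (k' - g) / (1 + T + Q) = 2 / 3)
    (c : k' ^ 2 + g ^ 2 / Q + (k' - g) ^ 2 / (1 + T + Q) = 1) : False := by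
  obtain ⟨A, hAdef⟩ : ∃ A, A = 1 + T + Q := ⟨_, rfl⟩
  rw [← hAdef] at ha e3a e3b e3c a b c
  have h1 : (k + h) ^ 2 / A = 2 / 3 := by linarith
  have h2 : (k + h) * (k' - g) / A = -1 / 3 := by linarith
  have h3 : (k' - g) ^ 2 / A = -1 / 6 := by linarith
  have h4 : ((k + h) * (k' - g) / A) ^ 2 = (k + h) ^ 2 / A * ((k' - g) ^ 2 / A) := by
    field_simp
  rw [h1, h2, h3] at h4
  norm_num at h4

theorem no_fourth {S R Q k h k' g : ℝ} (hS : S ≠ 0) (hR : R ≠ 0) (hh : h ≠ 0)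
    (e3a : k ^ 2 - 2 * h ^ 2 / R = 8 / 3) (e3b : k * k' = 4 / 3)
    (e3c : k' ^ 2 + g ^ 2 / Q = 4 / 3)
    (a : k ^ 2 + h ^ 2 / R - (k + h) ^ 2 / S = 4 / 3)
    (b : k * k' - (k + h) * (k' - g) / S = 2 / 3)
    (c : k' ^ 2 + g ^ 2 / Q - (k' - g) ^ 2 / S = 1) : False := by
  have h2 : (k + h) * (k' - g) / S = 2 / 3 := by linarith
  have h3 : (k' - g) ^ 2 / S = 1 / 3 := by linarith
  have h4 : ((k + h) * (k' - g) / S) ^ 2 = (k + h) ^ 2 / S * ((k' - g) ^ 2 / S) := by
    field_simp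
  rw [h2, h3] at h4
  have h5 : h ^ 2 / R = 0 := by
    rw [mul_div_assoc] at e3a
    linarith
  exact hh (by simpa [hR] using h5)

end Cfsg.Agent.RecogNine
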