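import Cfsg.Agent.RecogNine.Config

/-!
# A constituent of degree three

The two remaining vectors are placed among the constituents of the four small ones.
-/

set_option autoImplicit false
set_option linter.style.haveILetI false

namespace Cfsg.Agent.RecogNine

namespace Config

variable {I : Type*} [Fintype I] {C : Config I}

theorem one_val (i : Fin 6) (hi : oneT i = 1) : C.Val i C.one 1 (C.y C.one) (C.z C.one) :=
  C.val_mk (Or.inl (by rw [C.co_one, hi]))
    (by rw [C.co_one, hi, C.deg_one]; norm_num)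
    (by rw [C.co_one, hi]; norm_num) (by rw [C.co_one, hi]; norm_num)

theorem sq_unit' {i : Fin 6} {x : I} (hx : x ≠ C.one) (h : C.co i x ≠ 0) : C.co i x ^ 2 = 1 := by
  rcases C.unit_of_ne hx h with e | e <;> rw [e] <;> norm_num

variable {p q r r' s s2 s3 : I}

/-- The first form of the third vector. -/
structure Form1 (b0 : C.Base p q r r' s s2 s3) (e : I) : Prop where
  new : e ∉ [C.one, p, q, r, r', s, s2, s3]
  supp : ∀ x, x ∉ [C.one, q, s, e] → C.co 2 x = 0
  ue : C.co 2 e ≠ 0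
  hq : C.co 2 q = C.co 0 q
  hs : C.co 2 s = C.co 1 s

/-- The second form of the third vector. -/
structure Form2 (b0 : C.Base p q r r' s s2 s3) : Prop where
  supp : ∀ x, x ∉ [C.one, q, s2, s3] → C.co 2 x = 0
  hq : C.co 2 q = C.co 0 q
  hs2 : C.co 2 s2 = C.co 1 s2
  hs3 : C.co 2 s3 = C.co 5 s3

theorem forms (b : C.Base p q r r' s s2 s3) :
    (∃ e, Form1 b e) ∨ Form2 b ∨ (∃ e, Form1 (Base.swap C b) e) ∨ Form2 (Base.swap C b) := by
  have hnd := b.nodup
  simp only [List.nodup_cons, List.mem_cons, List.not_mem_nil, or_false, not_or,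
    List.nodup_nil, and_true] at hnd
  obtain ⟨⟨n1, n2, n3, n4, n5, n6, n7⟩, ⟨n8, n9, n10, n11, n12, n13⟩, ⟨n14, n15, n16, n17, n18⟩,
    ⟨n19, n20, n21, n22⟩, ⟨n23, n24, n25⟩, ⟨n26, n27⟩, n28, -⟩ := hnd
  have hA := C.inner_list 0 2 (l := [p, q, r]) (by simp [n8, n9, n14]) b.supp0
  have hD := C.inner_list 1 2 (l := [r, s, s2]) (by simp [n20, n21, n26]) b.supp1
  have hE := C.inner_list 4 2 (l := [r, r']) (by simp [n19]) b.supp4
  have hZ := C.inner_list 5 2 (l := [s2, s3]) (by simp [n28]) b.supp5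
  simp only [List.map_cons, List.map_nil, List.sum_cons, List.sum_nil, add_zero, b.r1, b.r4,
    b.s2_5, neg_mul] at hA hD hE hZ
  rw [show gramT 0 2 = 1 by decide] at hA
  rw [show gramT 1 2 = 1 by decide] at hD
  rw [show gramT 4 2 = 0 by decide] at hE
  rw [show gramT 5 2 = 0 by decide] at hZ
  obtain ⟨p1, p2, p3⟩ := prod_unit (C.unit_zero (i := 0) (by decide) b.up) (C.bound 2 (Ne.symm n1))
  obtain ⟨q1, q2, q3⟩ := prod_unit (C.unit_zero (i := 0) (by decide) b.uq) (C.bound 2 (Ne.symm n2))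
  obtain ⟨r1, r2, r3⟩ := prod_unit (C.unit_zero (i := 0) (by decide) b.ur) (C.bound 2 (Ne.symm n3))
  obtain ⟨x1, x2, x3⟩ := prod_unit (C.unit_zero (i := 4) (by decide) b.ur')
    (C.bound 2 (Ne.symm n4))
  obtain ⟨y1, y2, y3⟩ := prod_unit (C.unit_zero (i := 1) (by decide) b.us) (C.bound 2 (Ne.symm n5))
  obtain ⟨z1, z2, z3⟩ := prod_unit (C.unit_zero (i := 1) (by decide) b.us2)
    (C.bound 2 (Ne.symm n6))
  obtain ⟨w1, w2, w3⟩ := prod_unit (C.unit_zero (i := 5) (by decide) b.us3)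
    (C.bound 2 (Ne.symm n7))
  have hle := list_sum_le (C.co 2) b.nodup
  rw [C.norm, show gramT 2 2 = 4 by decide] at hle
  simp only [List.map_cons, List.map_nil, List.sum_cons, List.sum_nil, p3, q3, r3, x3, y3, z3, w3,
    C.co_one, show oneT 2 = 1 by decide, one_pow] at hle
  have hcases : C.co 0 r * C.co 2 r = 0 ∧ C.co 4 r' * C.co 2 r' = 0 ∧
      ((C.co 0 p * C.co 2 p = 0 ∧ C.co 0 q * C.co 2 q = 1) ∨
        (C.co 0 p * C.co 2 p = 1 ∧ C.co 0 q * C.co 2 q = 0)) ∧
      ((C.co 1 s * C.co 2 s = 1 ∧ C.co 1 s2 * C.co 2 s2 = 0 ∧ C.co 5 s3 * C.co 2 s3 = 0) ∨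
        (C.co 1 s * C.co 2 s = 0 ∧ C.co 1 s2 * C.co 2 s2 = 1 ∧ C.co 5 s3 * C.co 2 s3 = 1)) := by
    omega
  obtain ⟨er, ex, hpq, hst⟩ := hcases
  have build1 : ∀ a c, ∀ b' : C.Base a c r r' s s2 s3, C.co 0 a * C.co 2 a = 0 →
      C.co 0 c * C.co 2 c = 1 → C.co 1 s * C.co 2 s = 1 → C.co 1 s2 * C.co 2 s2 = 0 →
      C.co 5 s3 * C.co 2 s3 = 0 → ∃ e, Form1 b' e := by
    intro a c b' ea ec es et et3
    have m := b'.nodup
    simp only [List.nodup_cons, List.mem_cons, List.not_mem_nil, or_false, not_or,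
      List.nodup_nil, and_true] at m
    have hc : C.co 2 c = C.co 0 c := by
      rw [eq_mul_of_prod (C.unit_zero (by decide) b'.uq) ec, one_mul]
    have hs : C.co 2 s = C.co 1 s := by
      rw [eq_mul_of_prod (C.unit_zero (by decide) b'.us) es, one_mul]
    have a0 : C.co 2 a = 0 := (mul_eq_zero.1 ea).resolve_left b'.up
    have r0 : C.co 2 r = 0 := (mul_eq_zero.1 er).resolve_left b.ur
    have x0 : C.co 2 r' = 0 := (mul_eq_zero.1 ex).resolve_left b.ur'
    have t0 : C.co 2 s2 = 0 := (mul_eq_zero.1 et).resolve_left b.us2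
    have u0 : C.co 2 s3 = 0 := (mul_eq_zero.1 et3).resolve_left b.us3
    have sc : C.co 2 c ^ 2 = 1 := by rw [hc]; exact C.sq_unit (by decide) b'.uq
    have ss : C.co 2 s ^ 2 = 1 := by rw [hs]; exact C.sq_unit (by decide) b'.us
    have hl : [C.one, c, s].Nodup := by simp [m]
    obtain ⟨e, he, he2⟩ := list_extra (C.co 2) hl (by
      rw [C.norm, show gramT 2 2 = 4 by decide]
      simp [sc, ss, C.co_one, show oneT 2 = 1 by decide])
    simp only [List.mem_cons, List.not_mem_nil, or_false, not_or] at he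
    have k1 : e ≠ a := fun h => he2 (h ▸ a0)
    have k2 : e ≠ r := fun h => he2 (h ▸ r0)
    have k3 : e ≠ r' := fun h => he2 (h ▸ x0)
    have k4 : e ≠ s2 := fun h => he2 (h ▸ t0)
    have k5 : e ≠ s3 := fun h => he2 (h ▸ u0)
    refine ⟨e, ⟨by simp [he, k1, k2, k3, k4, k5],
      list_supp _ (by simp [m, Ne.symm he.1, Ne.symm he.2.1, Ne.symm he.2.2]) ?_, he2, hc, hs⟩⟩
    rw [C.norm]
    simp [sc, ss, C.co_one, show oneT 2 = 1 by decide, C.sq_unit' he.1 he2]
    decide
  have build2 : ∀ a c, ∀ b' : C.Base a c r r' s s2 s3,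
      C.co 0 c * C.co 2 c = 1 → C.co 1 s2 * C.co 2 s2 = 1 →
      C.co 5 s3 * C.co 2 s3 = 1 → Form2 b' := by
    intro a c b' ec et et3
    have m := b'.nodup
    simp only [List.nodup_cons, List.mem_cons, List.not_mem_nil, or_false, not_or,
      List.nodup_nil, and_true] at m
    have hc : C.co 2 c = C.co 0 c := by
      rw [eq_mul_of_prod (C.unit_zero (by decide) b'.uq) ec, one_mul]
    have ht : C.co 2 s2 = C.co 1 s2 := by
      rw [eq_mul_of_prod (C.unit_zero (by decide) b'.us2) et, one_mul]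
    have hu : C.co 2 s3 = C.co 5 s3 := by
      rw [eq_mul_of_prod (C.unit_zero (by decide) b'.us3) et3, one_mul]
    refine ⟨list_supp _ (by simp [m]) ?_, hc, ht, hu⟩
    rw [C.norm]
    simp [hc, ht, hu, C.co_one, show oneT 2 = 1 by decide, C.sq_unit (i := 0) (by decide) b'.uq,
      C.sq_unit (i := 1) (by decide) b'.us2, C.sq_unit (i := 5) (by decide) b'.us3]
    decide
  rcases hpq with ⟨ep, eq⟩ | ⟨ep, eq⟩ <;> rcases hst with ⟨es, et, eu⟩ | ⟨es, et, eu⟩
  · exact Or.inl (build1 p q b ep eq es et eu)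
  · exact Or.inr (Or.inl (build2 p q b eq et eu))
  · exact Or.inr (Or.inr (Or.inl (build1 q p (Base.swap C b) eq ep es et eu)))
  · exact Or.inr (Or.inr (Or.inr (build2 q p (Base.swap C b) ep et eu)))

set_option maxHeartbeats 1000000 in
/-- The possible forms of the fourth vector. -/
theorem gamma_cases (b : C.Base p q r r' s s2 s3) :
    (∀ x, x ∉ [C.one, r, r', s3] → C.co 3 x = 0) ∧ C.co 3 r = C.co 0 r ∧
        C.co 3 r' = C.co 4 r' ∧ C.co 3 s3 = C.co 5 s3 ∧ C.co 3 q = 0 ∧ C.co 3 s = 0 ∧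
        C.co 3 s2 = 0 ∨
      C.co 3 r = 0 ∧ C.co 3 r' = 0 ∧
        ((C.co 3 p = C.co 0 p ∧ C.co 3 q = 0) ∨ (C.co 3 p = 0 ∧ C.co 3 q = C.co 0 q)) ∧
        ((C.co 3 s = -C.co 1 s ∧ C.co 3 s2 = 0 ∧ C.co 3 s3 = C.co 5 s3) ∨
          (C.co 3 s = 0 ∧ C.co 3 s2 = -C.co 1 s2 ∧ C.co 3 s3 = 0)) := by
  have hnd := b.nodup
  simp only [List.nodup_cons, List.mem_cons, List.not_mem_nil, or_false, not_or,
    List.nodup_nil, and_true] at hnd
  obtain ⟨⟨n1, n2, n3, n4, n5, n6, n7⟩, ⟨n8, n9, n10, n11, n12, n13⟩, ⟨n14, n15, n16, n17, n18⟩,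
    ⟨n19, n20, n21, n22⟩, ⟨n23, n24, n25⟩, ⟨n26, n27⟩, n28, -⟩ := hnd
  have hA := C.inner_list 0 3 (l := [p, q, r]) (by simp [n8, n9, n14]) b.supp0
  have hD := C.inner_list 1 3 (l := [r, s, s2]) (by simp [n20, n21, n26]) b.supp1
  have hE := C.inner_list 4 3 (l := [r, r']) (by simp [n19]) b.supp4
  have hZ := C.inner_list 5 3 (l := [s2, s3]) (by simp [n28]) b.supp5
  simp only [List.map_cons, List.map_nil, List.sum_cons, List.sum_nil, add_zero, b.r1, b.r4,
    b.s2_5, neg_mul] at hA hD hE hZ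
  rw [show gramT 0 3 = 1 by decide] at hA
  rw [show gramT 1 3 = -1 by decide] at hD
  rw [show gramT 4 3 = 0 by decide] at hE
  rw [show gramT 5 3 = 1 by decide] at hZ
  obtain ⟨p1, p2, p3⟩ := prod_unit (C.unit_zero (i := 0) (by decide) b.up) (C.bound 3 (Ne.symm n1))
  obtain ⟨q1, q2, q3⟩ := prod_unit (C.unit_zero (i := 0) (by decide) b.uq) (C.bound 3 (Ne.symm n2))
  obtain ⟨r1, r2, r3⟩ := prod_unit (C.unit_zero (i := 0) (by decide) b.ur) (C.bound 3 (Ne.symm n3))
  obtain ⟨x1, x2, x3⟩ := prod_unit (C.unit_zero (i := 4) (by decide) b.ur')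
    (C.bound 3 (Ne.symm n4))
  obtain ⟨y1, y2, y3⟩ := prod_unit (C.unit_zero (i := 1) (by decide) b.us) (C.bound 3 (Ne.symm n5))
  obtain ⟨z1, z2, z3⟩ := prod_unit (C.unit_zero (i := 1) (by decide) b.us2)
    (C.bound 3 (Ne.symm n6))
  obtain ⟨w1, w2, w3⟩ := prod_unit (C.unit_zero (i := 5) (by decide) b.us3)
    (C.bound 3 (Ne.symm n7))
  have hle := list_sum_le (C.co 3) b.nodup
  rw [C.norm, show gramT 3 3 = 4 by decide] at hle
  simp only [List.map_cons, List.map_nil, List.sum_cons, List.sum_nil, p3, q3, r3, x3, y3, z3, w3,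
    C.co_one, show oneT 3 = 1 by decide, one_pow] at hle
  have hcases : (C.co 0 r * C.co 3 r = 1 ∧ C.co 4 r' * C.co 3 r' = 1 ∧ C.co 0 p * C.co 3 p = 0 ∧
      C.co 0 q * C.co 3 q = 0 ∧ C.co 1 s * C.co 3 s = 0 ∧ C.co 1 s2 * C.co 3 s2 = 0 ∧
      C.co 5 s3 * C.co 3 s3 = 1) ∨
    (C.co 0 r * C.co 3 r = 0 ∧ C.co 4 r' * C.co 3 r' = 0 ∧
      ((C.co 0 p * C.co 3 p = 1 ∧ C.co 0 q * C.co 3 q = 0) ∨
        (C.co 0 p * C.co 3 p = 0 ∧ C.co 0 q * C.co 3 q = 1)) ∧
      ((C.co 1 s * C.co 3 s = -1 ∧ C.co 1 s2 * C.co 3 s2 = 0 ∧ C.co 5 s3 * C.co 3 s3 = 1) ∨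
        (C.co 1 s * C.co 3 s = 0 ∧ C.co 1 s2 * C.co 3 s2 = -1 ∧ C.co 5 s3 * C.co 3 s3 = 0))) := by
    omega
  have z : ∀ {i : Fin 6} {x : I}, C.co i x ≠ 0 → C.co i x * C.co 3 x = 0 → C.co 3 x = 0 :=
    fun h e => (mul_eq_zero.1 e).resolve_left h
  have o : ∀ {i : Fin 6} {x : I}, oneT i = 0 → C.co i x ≠ 0 → C.co i x * C.co 3 x = 1 →
      C.co 3 x = C.co i x :=
    fun hi h e => by rw [eq_mul_of_prod (C.unit_zero hi h) e, one_mul]
  have o' : ∀ {i : Fin 6} {x : I}, oneT i = 0 → C.co i x ≠ 0 → C.co i x * C.co 3 x = -1 →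
      C.co 3 x = -C.co i x :=
    fun hi h e => by rw [eq_mul_of_prod (C.unit_zero hi h) e]; ring
  rcases hcases with ⟨er, ex, ep, eq, es, et, eu⟩ | ⟨er, ex, hpq, hst⟩
  · have hr := o (by decide) b.ur er
    have hx := o (by decide) b.ur' ex
    have hu := o (by decide) b.us3 eu
    refine Or.inl ⟨list_supp _ (by simp [n3, n4, n7, n19, n22, n25]) ?_, hr, hx, hu, z b.uq eq,
      z b.us es, z b.us2 et⟩
    rw [C.norm]
    simp [hr, hx, hu, C.co_one, show oneT 3 = 1 by decide, C.sq_unit (i := 0) (by decide) b.ur,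
      C.sq_unit (i := 4) (by decide) b.ur', C.sq_unit (i := 5) (by decide) b.us3]
    decide
  · refine Or.inr ⟨z b.ur er, z b.ur' ex, ?_, ?_⟩
    · rcases hpq with ⟨ep, eq⟩ | ⟨ep, eq⟩
      · exact Or.inl ⟨o (by decide) b.up ep, z b.uq eq⟩
      · exact Or.inr ⟨z b.up ep, o (by decide) b.uq eq⟩
    · rcases hst with ⟨es, et, eu⟩ | ⟨es, et, eu⟩
      · exact Or.inl ⟨o' (by decide) b.us es, z b.us2 et, o (by decide) b.us3 eu⟩
      · exact Or.inr ⟨z b.us es, o' (by decide) b.us2 et, z b.us3 eu⟩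

theorem good_of_form1 (b : C.Base p q r r' s s2 s3) {e : I} (f : Form1 b e) : C.Good := by
  obtain ⟨P, Q, T, g, h, v1, v2, v3, v4, v5, v6, v7, hP, hQ, hT, hL, hR, hh, e1, e2⟩ :=
    Base.vals C b
  have hnew := f.new
  simp only [List.mem_cons, List.not_mem_nil, or_false, not_or] at hnew
  obtain ⟨f0, f1, f2, f3, f4, f5, f6, f7⟩ := hnew
  have m := b.nodup
  simp only [List.nodup_cons, List.mem_cons, List.not_mem_nil, or_false, not_or,
    List.nodup_nil, and_true] at m
  have o2 := one_val (C := C) 2 (by decide)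
  have o3 := one_val (C := C) 3 (by decide)
  generalize C.y C.one = k at o2 o3
  generalize C.z C.one = k' at o2 o3
  have q2 : C.Val 2 q Q 0 (-g) := v2.same f.hq
  have t2 : C.Val 2 s T h 0 := v5.same f.hs
  have he := C.val_mk (C.unit_of_ne f0 f.ue) rfl rfl rfl
  have hl : [C.one, q, s, e].Nodup := by simp [m, Ne.symm f0, Ne.symm f2, Ne.symm f5]
  obtain ⟨a1, a2, a3, -, -, -⟩ := C.eq4 hl f.supp o2 q2 t2 he
  rw [show (C.co 2 e : ℝ) * (C.deg e : ℝ) = -(1 + T + Q) by linarith,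
    show (C.co 2 e : ℝ) * C.y e = -(k + h) by linarith,
    show (C.co 2 e : ℝ) * C.z e = -(k' - g) by linarith] at he
  obtain ⟨-, -, -, e3a, e3b, e3c⟩ := C.eq4 hl f.supp o2 q2 t2 he
  have ha : 1 + T + Q ≠ 0 := fun h0 => he.deg_ne f.ue (by linarith)
  simp only [yyT, yzT, zzT, neg_sq, div_neg, neg_mul_neg, ne_eq, two_ne_zero, not_false_eq_true,
    zero_pow, zero_div, add_zero, zero_add, mul_zero, zero_mul, Fin.isValue, Matrix.cons_val,
    Matrix.cons_val_zero, one_pow, div_one] at e3a e3b e3c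
  replace e3a : k ^ 2 + h ^ 2 / T - (k + h) ^ 2 / (1 + T + Q) = 8 / 3 := by
    linear_combination e3a
  replace e3b : k * k' - (k + h) * (k' - g) / (1 + T + Q) = 4 / 3 := by linear_combination e3b
  replace e3c : k' ^ 2 + g ^ 2 / Q - (k' - g) ^ 2 / (1 + T + Q) = 4 / 3 := by
    linear_combination e3c
  have hg := C.inner_list 2 3 hl f.supp
  simp only [List.map_cons, List.map_nil, List.sum_cons, List.sum_nil, add_zero, f.hq, f.hs,
    C.co_one, show oneT 2 = 1 by decide, show oneT 3 = 1 by decide,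
    show gramT 2 3 = 1 by decide] at hg
  have sq0 := C.sq_unit (i := 0) (by decide) b.uq
  have sp0 := C.sq_unit (i := 0) (by decide) b.up
  have st0 := C.sq_unit (i := 1) (by decide) b.us
  have mq : C.co 0 q * C.co 0 q = 1 := (pow_two _).symm.trans sq0
  have mt : C.co 1 s * C.co 1 s = 1 := (pow_two _).symm.trans st0
  have st1 := C.sq_unit (i := 1) (by decide) b.us2
  have su0 := C.sq_unit (i := 5) (by decide) b.us3
  rcases gamma_cases b with ⟨supp, hr, hx, hu, -, -, -⟩ | ⟨-, -, hpq, hst⟩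
  · exfalso
    have w1 : C.Val 3 r (-(P + Q)) 0 0 := v3.same hr
    have w2 : C.Val 3 r' (-(P + Q)) 0 0 := v4.same hx
    have w3 : C.Val 3 s3 (-(T + P + Q)) (-h) 0 := v7.same hu
    obtain ⟨d1, -, -, d4, d5, d6⟩ := C.eq4 (by simp [m]) supp o3 w1 w2 w3
    simp only [yyT, yzT, zzT, neg_sq, div_neg, neg_mul_neg, ne_eq, two_ne_zero, not_false_eq_true,
    zero_pow, zero_div, add_zero, zero_add, mul_zero, zero_mul, Fin.isValue, Matrix.cons_val,
    Matrix.cons_val_zero, one_pow, div_one] at d4 d5 d6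
    have hTL : T + P + Q = T + (P + Q) := by ring
    rw [hTL] at d4 e2
    have h8 := no_first (L := P + Q) (k := k) (k' := k') hT hL (by rw [← hTL]; exact hR) (by linarith) e2
      (by linear_combination d4) (by linear_combination d5) (by linear_combination d6)
    have h9 : ((8 * (C.co 0 r * (C.deg r : ℤ)) : ℤ) : ℝ) = ((-3 : ℤ) : ℝ) := by
      push_cast
      rw [v3.deg]; linarith
    rw [Int.cast_inj] at h9
    omega
  · rcases hpq with ⟨hp3, hq3⟩ | ⟨hp3, hq3⟩ <;> rcases hst with ⟨hs3', ht3, hu3⟩ | ⟨hs3', ht3, hu3⟩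
    · -- the combination with `p`, `s` and `s3`
      exfalso
      have supp : ∀ x, x ∉ [C.one, p, s, s3] → C.co 3 x = 0 :=
        list_supp _ (by simp [m]) (by
          rw [C.norm]
          simp [hp3, hs3', hu3, C.co_one, show oneT 3 = 1 by decide, sp0, st0, su0]
          decide)
      have he0 : C.co 3 e = 0 := supp e (by simp [f0, f1, f5, f7])
      rw [hq3, hs3', he0, mul_neg, mt] at hg
      omega
    · -- the configuration of the subgroup
      have sp : C.co 3 p ^ 2 = 1 := by rw [hp3]; exact sp0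
      have st : C.co 3 s2 ^ 2 = 1 := by rw [ht3, neg_sq]; exact st1
      have hl3 : [C.one, p, s2].Nodup := by simp [m]
      obtain ⟨d, hd, hd3⟩ := list_extra (C.co 3) hl3 (by
        rw [C.norm, show gramT 3 3 = 4 by decide]
        simp [sp, st, C.co_one, show oneT 3 = 1 by decide])
      simp only [List.mem_cons, List.not_mem_nil, or_false, not_or] at hd
      have hl4 : [C.one, p, s2, d].Nodup := by
        simp [m, Ne.symm hd.1, Ne.symm hd.2.1, Ne.symm hd.2.2]
      have supp : ∀ x, x ∉ [C.one, p, s2, d] → C.co 3 x = 0 :=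
        list_supp _ hl4 (by
          rw [C.norm]
          simp [sp, st, C.co_one, show oneT 3 = 1 by decide, C.sq_unit' hd.1 hd3]
          decide)
      have w1 : C.Val 3 p P 0 g := v1.same hp3
      have w2 : C.Val 3 s2 (T + P + Q) h 0 := by simpa using v6.opp ht3
      have hd' := C.val_mk (C.unit_of_ne hd.1 hd3) rfl rfl rfl
      obtain ⟨b1, b2, b3, -, -, -⟩ := C.eq4 hl4 supp o3 w1 w2 hd'
      rw [show (C.co 3 d : ℝ) * (C.deg d : ℝ) = -(1 + T + 2 * P + Q) by linarith,
        show (C.co 3 d : ℝ) * C.y d = -(k + h) by linarith,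
        show (C.co 3 d : ℝ) * C.z d = -(k' + g) by linarith] at hd'
      obtain ⟨-, -, -, e5a, e5b, e5c⟩ := C.eq4 hl4 supp o3 w1 w2 hd'
      have hb : 1 + T + 2 * P + Q ≠ 0 := fun h0 => hd'.deg_ne hd3 (by linarith)
      simp only [yyT, yzT, zzT, neg_sq, div_neg, neg_mul_neg, ne_eq, two_ne_zero, not_false_eq_true,
    zero_pow, zero_div, add_zero, zero_add, mul_zero, zero_mul, Fin.isValue, Matrix.cons_val,
    Matrix.cons_val_zero, one_pow, div_one] at e5a e5b e5c
      have hP3 := degree_three hP hQ hT hL hR ha hb e1 e2 e3a e3b e3c (by linear_combination e5a)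
        (by linear_combination e5b) (by linear_combination e5c)
      refine ⟨p, ?_, b.up⟩
      have h3 : ((C.co 0 p * (C.deg p : ℤ) : ℤ) : ℝ) = ((3 : ℤ) : ℝ) := by
        push_cast
        rw [v1.deg, hP3]
      rw [Int.cast_inj] at h3
      rcases C.unit_zero (i := 0) (by decide) b.up with hu' | hu' <;> rw [hu'] at h3 <;> omega
    · -- the combination with `q`, `s` and `s3`
      exfalso
      have supp : ∀ x, x ∉ [C.one, q, s, s3] → C.co 3 x = 0 :=
        list_supp _ (by simp [m]) (by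
          rw [C.norm]
          simp [hq3, hs3', hu3, C.co_one, show oneT 3 = 1 by decide, sq0, st0, su0]
          decide)
      have w1 : C.Val 3 q Q 0 (-g) := v2.same hq3
      have w2 : C.Val 3 s (-T) (-h) 0 := by simpa using v5.opp hs3'
      have w3 : C.Val 3 s3 (-(T + P + Q)) (-h) 0 := v7.same hu3
      obtain ⟨d1, -, -, d4, d5, d6⟩ := C.eq4 (by simp [m]) supp o3 w1 w2 w3
      simp only [yyT, yzT, zzT, neg_sq, div_neg, neg_mul_neg, ne_eq, two_ne_zero, not_false_eq_true,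
    zero_pow, zero_div, add_zero, zero_add, mul_zero, zero_mul, Fin.isValue, Matrix.cons_val,
    Matrix.cons_val_zero, one_pow, div_one] at d4 d5 d6
      exact no_second hP hQ hT hR ha (by linarith) e1 e2 e3a e3b e3c (by linear_combination d4)
        (by linear_combination d5) (by linear_combination d6)
    · -- the combination with `q`, `s2` and `e`
      exfalso
      rw [hq3, hs3', mq, mul_zero] at hg
      have hee : C.co 2 e * C.co 3 e = -1 := by linarith
      have he3 : C.co 3 e = -C.co 2 e := by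
        rw [eq_mul_of_prod (C.unit_of_ne f0 f.ue) hee]; ring
      have supp : ∀ x, x ∉ [C.one, q, s2, e] → C.co 3 x = 0 :=
        list_supp _ (by simp [m, Ne.symm f0, Ne.symm f2, Ne.symm f6]) (by
          rw [C.norm]
          simp [hq3, ht3, he3, C.co_one, show oneT 3 = 1 by decide, sq0, st1,
            C.sq_unit' f0 f.ue]
          decide)
      have w1 : C.Val 3 q Q 0 (-g) := v2.same hq3
      have w2 : C.Val 3 s2 (T + P + Q) h 0 := by simpa using v6.opp ht3
      have w3 : C.Val 3 e (1 + T + Q) (k + h) (k' - g) := by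
        have := he.opp he3
        rwa [neg_neg, neg_neg, neg_neg] at this
      obtain ⟨-, -, -, d4, d5, d6⟩ :=
        C.eq4 (by simp [m, Ne.symm f0, Ne.symm f2, Ne.symm f6]) supp o3 w1 w2 w3
      simp only [yyT, yzT, zzT, neg_sq, div_neg, neg_mul_neg, ne_eq, two_ne_zero, not_false_eq_true,
    zero_pow, zero_div, add_zero, zero_add, mul_zero, zero_mul, Fin.isValue, Matrix.cons_val,
    Matrix.cons_val_zero, one_pow, div_one] at d4 d5 d6
      exact no_third e2 ha e3a e3b e3c (by linear_combination d4) (by linear_combination d5)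
        (by linear_combination d6)

theorem good_of_form2 (b : C.Base p q r r' s s2 s3) (f : Form2 b) : False := by
  obtain ⟨P, Q, T, g, h, v1, v2, v3, v4, v5, v6, v7, hP, hQ, hT, hL, hR, hh, e1, e2⟩ :=
    Base.vals C b
  have m := b.nodup
  simp only [List.nodup_cons, List.mem_cons, List.not_mem_nil, or_false, not_or,
    List.nodup_nil, and_true] at m
  have o2 := one_val (C := C) 2 (by decide)
  have o3 := one_val (C := C) 3 (by decide)
  generalize C.y C.one = k at o2 o3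
  generalize C.z C.one = k' at o2 o3
  have q2 : C.Val 2 q Q 0 (-g) := v2.same f.hq
  have t2 : C.Val 2 s2 (-(T + P + Q)) (-h) 0 := v6.same f.hs2
  have u2 : C.Val 2 s3 (-(T + P + Q)) (-h) 0 := v7.same f.hs3
  have hl : [C.one, q, s2, s3].Nodup := by simp [m]
  obtain ⟨a1, -, -, a4, a5, a6⟩ := C.eq4 hl f.supp o2 q2 t2 u2
  simp only [yyT, yzT, zzT, neg_sq, div_neg, neg_mul_neg, ne_eq, two_ne_zero, not_false_eq_true,
    zero_pow, zero_div, add_zero, zero_add, mul_zero, zero_mul, Fin.isValue, Matrix.cons_val,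
    Matrix.cons_val_zero, one_pow, div_one] at a4 a5 a6
  have hg := C.inner_list 2 3 hl f.supp
  simp only [List.map_cons, List.map_nil, List.sum_cons, List.sum_nil, add_zero, f.hq, f.hs2,
    f.hs3, C.co_one, show oneT 2 = 1 by decide, show oneT 3 = 1 by decide,
    show gramT 2 3 = 1 by decide] at hg
  have sq0 := C.sq_unit (i := 0) (by decide) b.uq
  have st1 := C.sq_unit (i := 1) (by decide) b.us2
  have su0 := C.sq_unit (i := 5) (by decide) b.us3
  have mq : C.co 0 q * C.co 0 q = 1 := (pow_two _).symm.trans sq0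
  have mt : C.co 1 s2 * C.co 1 s2 = 1 := (pow_two _).symm.trans st1
  have mu : C.co 5 s3 * C.co 5 s3 = 1 := (pow_two _).symm.trans su0
  rcases gamma_cases b with ⟨-, -, -, hu, hq0, -, ht0⟩ | ⟨-, -, hpq, hst⟩
  · rw [hu, hq0, ht0, mu] at hg
    omega
  · rcases hpq with ⟨hp3, hq3⟩ | ⟨hp3, hq3⟩ <;> rcases hst with ⟨hs3', ht3, hu3⟩ | ⟨hs3', ht3, hu3⟩
    · rw [hq3, ht3, hu3, mu] at hg; omega
    · rw [hq3, ht3, hu3, mul_neg, mt] at hg; omega
    · rw [hq3, ht3, hu3, mq, mu] at hg; omega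
    · have sq : C.co 3 q ^ 2 = 1 := by rw [hq3]; exact sq0
      have st : C.co 3 s2 ^ 2 = 1 := by rw [ht3, neg_sq]; exact st1
      obtain ⟨d, hd, hd3⟩ := list_extra (C.co 3) (l := [C.one, q, s2]) (by simp [m]) (by
        rw [C.norm, show gramT 3 3 = 4 by decide]
        simp [sq, st, C.co_one, show oneT 3 = 1 by decide])
      simp only [List.mem_cons, List.not_mem_nil, or_false, not_or] at hd
      have hl4 : [C.one, q, s2, d].Nodup := by
        simp [m, Ne.symm hd.1, Ne.symm hd.2.1, Ne.symm hd.2.2]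
      have supp : ∀ x, x ∉ [C.one, q, s2, d] → C.co 3 x = 0 :=
        list_supp _ hl4 (by
          rw [C.norm]
          simp [sq, st, C.co_one, show oneT 3 = 1 by decide, C.sq_unit' hd.1 hd3]
          decide)
      have w1 : C.Val 3 q Q 0 (-g) := v2.same hq3
      have w2 : C.Val 3 s2 (T + P + Q) h 0 := by simpa using v6.opp ht3
      have hd' := C.val_mk (C.unit_of_ne hd.1 hd3) rfl rfl rfl
      obtain ⟨b1, b2, b3, -, -, -⟩ := C.eq4 hl4 supp o3 w1 w2 hd'
      generalize hRdef : T + P + Q = R at *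
      rw [show (C.co 3 d : ℝ) * (C.deg d : ℝ) = -(1 + R + Q) by linarith,
        show (C.co 3 d : ℝ) * C.y d = -(k + h) by linarith,
        show (C.co 3 d : ℝ) * C.z d = -(k' - g) by linarith] at hd'
      obtain ⟨-, -, -, d4, d5, d6⟩ := C.eq4 hl4 supp o3 w1 w2 hd'
      have hS : 1 + R + Q ≠ 0 := fun h0 => hd'.deg_ne hd3 (by linarith)
      simp only [yyT, yzT, zzT, neg_sq, div_neg, neg_mul_neg, ne_eq, two_ne_zero, not_false_eq_true,
    zero_pow, zero_div, add_zero, zero_add, mul_zero, zero_mul, Fin.isValue, Matrix.cons_val,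
    Matrix.cons_val_zero, one_pow, div_one] at d4 d5 d6
      exact no_fourth (k := k) (k' := k') (g := g) (Q := Q) hS hR hh (by linear_combination a4) (by linear_combination a5)
        (by linear_combination a6) (by linear_combination d4)
        (by linear_combination d5) (by linear_combination d6)

/-- Some constituent of the first vector has degree three. -/
theorem good (C : Config I) : C.Good := by
  obtain ⟨p, q, r, s, s2, hd⟩ := C.exists_head
  have hd' : (C.shift (C.y r / C.deg r) (C.z r / C.deg r)).Head p q r s s2 :=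
    ⟨hd.nodup, hd.supp0, hd.supp1, hd.up, hd.uq, hd.ur, hd.us, hd.us2, hd.r1⟩
  have hne : (C.deg r : ℝ) ≠ 0 := Nat.cast_ne_zero.2 (C.deg_pos r).ne'
  obtain ⟨r', t, t2, t3, b⟩ := Head.base (C.shift (C.y r / C.deg r) (C.z r / C.deg r)) hd'
    (by show C.y r - C.y r / C.deg r * C.deg r = 0; field_simp; ring)
    (by show C.z r - C.z r / C.deg r * C.deg r = 0; field_simp; ring)
  have hgood : (C.shift (C.y r / C.deg r) (C.z r / C.deg r)).Good := by
    rcases forms b with ⟨e, f⟩ | f | ⟨e, f⟩ | f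
    · exact good_of_form1 b f
    · exact (good_of_form2 b f).elim
    · exact good_of_form1 _ f
    · exact (good_of_form2 _ f).elim
  exact hgood

end Config

end Cfsg.Agent.RecogNine
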