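import Cfsg.Agent.RecogNine.Transfer
import Cfsg.Agent.RecogNine.Degree

/-!
# From characters to the numerical configuration

The multiplicities of the combinations in the restrictions of the irreducible characters satisfy
the hypotheses of the configuration.
-/

set_option autoImplicit false
set_option maxRecDepth 20000
set_option linter.style.haveILetI false

namespace Cfsg.Agent.RecogNine

open Cfsg.Agent.Characters
open Cfsg.Agent.BlocksChars.ClassAlg
open scoped ComplexConjugate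

/-- The first six combinations. -/
noncomputable def al (i : Fin 6) : W → ℂ := alph (Fin.castLE (by norm_num) i)

def valP (i : Fin 6) (c : Fin 14) : ℤ := (valPQ (Fin.castLE (by norm_num) i) c).1
def valQ (i : Fin 6) (c : Fin 14) : ℤ := (valPQ (Fin.castLE (by norm_num) i) c).2

theorem al_apply (i : Fin 6) (w : W) :
    al i w = (valP i (cl w) : ℂ) + (valQ i (cl w) : ℂ) * s3 := rfl

theorem val_supp : ∀ i c, inS c = false → valP i c = 0 ∧ valQ i c = 0 := by decide +kernel

theorem al_eq_zero {i : Fin 6} {w : W} (h : ¬ inS (cl w) = true) : al i w = 0 := by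
  obtain ⟨h1, h2⟩ := val_supp i (cl w) (by simpa using h)
  simp [al_apply, h1, h2]

theorem conj_al (i : Fin 6) (w : W) : conj (al i w) = al i w := by
  simp [al_apply, s3]

theorem gram_check : ∀ i j,
    (∑ c : Fin 14, (sizeT.getD c 0 : ℤ) * (valP i c * valP j c + 3 * valQ i c * valQ j c)) =
      648 * gramT i j ∧
    (∑ c : Fin 14, (sizeT.getD c 0 : ℤ) * (valP i c * valQ j c + valQ i c * valP j c)) = 0 := by
  decide +kernel

theorem one_check : ∀ i, (∑ c : Fin 14, (sizeT.getD c 0 : ℤ) * valP i c) = 648 * oneT i ∧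
    (∑ c : Fin 14, (sizeT.getD c 0 : ℤ) * valQ i c) = 0 := by
  decide +kernel

/-- Structure constants at the representatives. -/
def nT : Fin 3 → List ℕ :=
  ![[27, 18, 6, 9, 0, 6, 0, 0, 0, 0, 0, 0, 0, 0], [0, 0, 0, 0, 6, 0, 3, 3, 0, 6, 6, 0, 0, 0],
    [54, 18, 6, 9, 0, 6, 0, 0, 27, 0, 0, 9, 9, 9]]

/-- The right hand sides, multiplied out. -/
def kT : Fin 3 → Fin 6 → ℤ :=
  ![![0, 1944, 1944, 972, 0, 0], ![0, 0, 1944, 972, 0, 0], ![1944, 0, 3888, 2916, 0, 0]]

theorem class_check : ∀ k i,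
    (∑ c : Fin 14, (sizeT.getD c 0 : ℤ) * (valP i c * ((nT k).getD c 0 : ℤ))) = kT k i ∧
    (∑ c : Fin 14, (sizeT.getD c 0 : ℤ) * (valQ i c * ((nT k).getD c 0 : ℤ))) = 0 := by
  decide +kernel

theorem sum_by_class (f : Fin 14 → ℂ) :
    ∑ w : W, f (cl w) = ∑ c : Fin 14, (sizeT.getD c 0 : ℂ) * f c := by
  classical
  rw [← Finset.sum_fiberwise Finset.univ cl]
  refine Finset.sum_congr rfl fun c _ => ?_
  rw [Finset.sum_congr rfl (g := fun _ => f c) fun w hw => by rw [(Finset.mem_filter.1 hw).2],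
    Finset.sum_const, count_class, nsmul_eq_mul]

/-- A sum of values in the quadratic ring with vanishing irrational part. -/
theorem sum_quad (A B : Fin 14 → ℤ) {X : ℤ} (hA : ∑ c : Fin 14, (sizeT.getD c 0 : ℤ) * A c = X)
    (hB : ∑ c : Fin 14, (sizeT.getD c 0 : ℤ) * B c = 0) :
    ∑ w : W, ((A (cl w) : ℂ) + (B (cl w) : ℂ) * s3) = (X : ℂ) := by
  rw [sum_by_class (fun c => (A c : ℂ) + (B c : ℂ) * s3)]
  simp only [mul_add, ← mul_assoc, Finset.sum_add_distrib, ← Finset.sum_mul]
  have h1 := congrArg (fun n : ℤ => (n : ℂ)) hA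
  have h2 := congrArg (fun n : ℤ => (n : ℂ)) hB
  push_cast at h1 h2
  rw [h1, h2, zero_mul, add_zero]

theorem sum_al_mul_al (i j : Fin 6) : ∑ w : W, al i w * al j w = 648 * (gramT i j : ℂ) := by
  obtain ⟨h1, h2⟩ := gram_check i j
  have h := sum_quad (fun c => valP i c * valP j c + 3 * valQ i c * valQ j c)
    (fun c => valP i c * valQ j c + valQ i c * valP j c) h1 h2
  push_cast at h
  rw [← h]
  refine Finset.sum_congr rfl fun w _ => ?_
  rw [al_apply, al_apply]
  linear_combination (valQ i (cl w) : ℂ) * (valQ j (cl w) : ℂ) * s3_sq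

theorem sum_al (i : Fin 6) : ∑ w : W, al i w = 648 * (oneT i : ℂ) := by
  obtain ⟨h1, h2⟩ := one_check i
  have h := sum_quad (valP i) (valQ i) h1 h2
  push_cast at h
  rw [← h]
  rfl

theorem card_W : Nat.card W = 648 := by
  rw [Nat.card_eq_fintype_card]; decide +kernel

theorem classInner_W (φ ψ : W → ℂ) :
    Cfsg.classInner φ ψ = (648 : ℂ)⁻¹ * ∑ w : W, φ w * conj (ψ w) := by
  rw [classInner_def, card_W]
  norm_num

variable {G : Type*} [Group G] [Finite G] (S : Setting G)

theorem exists_coef (i : Fin 6) (χ : Cfsg.IrrCharacter G) :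
    ∃ z : ℤ, Cfsg.classInner (al i) ((χ : G → ℂ) ∘ S.ι) = (z : ℂ) :=
  classInner_gen_int (alph_isGen _) (isGen_of_isCharacter (isCharacter_comp S.ι (irr_isCharacter χ)))

/-- The multiplicity of an irreducible character in an induced combination. -/
noncomputable def Setting.coef (i : Fin 6) (χ : Cfsg.IrrCharacter G) : ℤ :=
  (exists_coef S i χ).choose

theorem Setting.coef_spec (i : Fin 6) (χ : Cfsg.IrrCharacter G) :
    (S.coef i χ : ℂ) = (648 : ℂ)⁻¹ * ∑ w : W, al i w * conj ((χ : G → ℂ) (S.ι w)) := by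
  rw [Setting.coef, ← (exists_coef S i χ).choose_spec, classInner_W]
  rfl

theorem Setting.coef_spec' (i : Fin 6) (χ : Cfsg.IrrCharacter G) :
    (S.coef i χ : ℂ) = (648 : ℂ)⁻¹ * ∑ w : W, al i w * (χ : G → ℂ) (S.ι w) := by
  have h := congrArg conj (S.coef_spec i χ)
  simp only [map_mul, map_sum, map_inv₀, map_ofNat, map_intCast, Complex.conj_conj, conj_al] at h
  exact h

variable [Fintype (Cfsg.IrrCharacter G)]

theorem Setting.sum_coef_mul (i : Fin 6) (u : W) :
    ∑ χ : Cfsg.IrrCharacter G, (S.coef i χ : ℂ) * (χ : G → ℂ) (S.ι u) = al i u := by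
  classical
  simp only [S.coef_spec, mul_assoc, Finset.sum_mul, Finset.mul_sum]
  rw [Finset.sum_comm]
  have h : ∀ w : W, ∑ χ : Cfsg.IrrCharacter G,
      (648 : ℂ)⁻¹ * (al i w * (conj ((χ : G → ℂ) (S.ι w)) * (χ : G → ℂ) (S.ι u))) =
      (648 : ℂ)⁻¹ * if cl w = cl u then al i u * (centOrd (cl u) : ℂ) else 0 := by
    intro w
    rw [← Finset.mul_sum, ← Finset.mul_sum,
      Finset.sum_congr rfl (g := fun χ : Cfsg.IrrCharacter G =>
        (χ : G → ℂ) (S.ι u) * conj ((χ : G → ℂ) (S.ι w))) (fun χ _ => mul_comm _ _),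
      second_orthogonality]
    congr 1
    by_cases hw : inS (cl w) = true
    · by_cases hc : cl w = cl u
      · rw [if_pos hc, if_pos ((S.isConj_iff_of_inS hw).2 hc).symm, S.card_cent_S hw, hc]
        congr 1
        rw [al_apply, al_apply, hc]
      · rw [if_neg hc, if_neg fun e => hc ((S.isConj_iff_of_inS hw).1 e.symm), mul_zero]
    · rw [al_eq_zero hw, zero_mul]
      split_ifs with hc
      · rw [al_eq_zero (by rwa [← hc]), zero_mul]
      · rfl
  rw [Finset.sum_congr rfl fun w _ => h w, ← Finset.mul_sum, ← Finset.sum_filter, Finset.sum_const,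
    count_class, nsmul_eq_mul]
  have h2 : (centOrd (cl u) : ℂ) * (sizeT.getD (cl u) 0 : ℂ) = 648 := by
    exact_mod_cast centOrd_mul (cl u)
  linear_combination (al i u * (648 : ℂ)⁻¹) * h2

theorem Setting.sum_coef_eq_zero (i : Fin 6) (u : W) (hu : ¬ inS (cl u) = true) :
    ∑ χ : Cfsg.IrrCharacter G, (S.coef i χ : ℂ) * (χ : G → ℂ) (S.ι u) = 0 := by
  rw [S.sum_coef_mul, al_eq_zero hu]

theorem Setting.gram (i j : Fin 6) :
    ∑ χ : Cfsg.IrrCharacter G, S.coef i χ * S.coef j χ = gramT i j := by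
  have h : ((∑ χ : Cfsg.IrrCharacter G, S.coef i χ * S.coef j χ : ℤ) : ℂ) = (gramT i j : ℂ) := by
    push_cast
    simp only [S.coef_spec' j, Finset.mul_sum]
    rw [Finset.sum_comm]
    have h1 : ∀ w : W, ∑ χ : Cfsg.IrrCharacter G,
        (S.coef i χ : ℂ) * ((648 : ℂ)⁻¹ * (al j w * (χ : G → ℂ) (S.ι w))) =
        (648 : ℂ)⁻¹ * (al i w * al j w) := by
      intro w
      rw [← S.sum_coef_mul i w, Finset.sum_mul, Finset.mul_sum]
      exact Finset.sum_congr rfl fun χ _ => by ring
    rw [Finset.sum_congr rfl fun w _ => h1 w, ← Finset.mul_sum, sum_al_mul_al]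
    ring
  exact_mod_cast h

omit [Fintype (Cfsg.IrrCharacter G)] in
theorem Setting.coef_one (i : Fin 6) :
    S.coef i ⟨fun _ => 1, isIrrCharacter_one⟩ = oneT i := by
  have h : (S.coef i ⟨fun _ => 1, isIrrCharacter_one⟩ : ℂ) = (oneT i : ℂ) := by
    rw [S.coef_spec]
    simp only [map_one, mul_one, sum_al]
    ring
  exact_mod_cast h

omit [Fintype (Cfsg.IrrCharacter G)] in
theorem Setting.conv_value [Fintype G] {X Y : Fin 14} (hX : X ∈ [2, 6]) (hY : Y ∈ [2, 6]) {w : W}
    (hw : inS (cl w) = true) :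
    conv (classInd (S.ι (rep X))) (classInd (S.ι (rep Y))) (S.ι w) =
      (pairCount X Y (rep (cl w)) : ℂ) := by
  classical
  rw [classFun_eq_of_isConj (conv_isClassFunction (classInd_isClassFunction _)
    (classInd_isClassFunction _)) ((S.isConj_iff_of_inS hw).2 (cl_rep _).symm), conv_classInd,
    Nat.cast_inj]
  have hx : inS (cl (rep (cl w))) = true := by rwa [cl_rep]
  generalize rep (cl w) = x at hx
  rw [pairCount, ← Fintype.card_subtype (fun u : W => cl u = X ∧ cl (u * x) = Y),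
    ← Nat.card_eq_fintype_card]
  have hinvol : ∀ u : W, cl u ∈ [2, 6] → u⁻¹ = u := fun u hu =>
    inv_eq_of_mul_eq_one_right ((involution_iff u).2 hu).2
  have hsq : ∀ (Z : Fin 14) (g : G), Z ∈ [2, 6] → IsConj (S.ι (rep Z)) g → g * g = 1 := by
    intro Z g hZ hg
    obtain ⟨c, rfl⟩ := isConj_iff.1 hg
    rw [show c * S.ι (rep Z) * c⁻¹ * (c * S.ι (rep Z) * c⁻¹) = c * (S.ι (rep Z * rep Z)) * c⁻¹ by
      rw [map_mul]; group, ((involution_iff (rep Z)).2 (by rwa [cl_rep])).2, map_one]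
    group
  refine (Nat.card_congr (Equiv.ofBijective
    (fun u : {u : W // cl u = X ∧ cl (u * x) = Y} =>
      (⟨S.ι u.1, (S.isConj_invol hX u.1).2 u.2.1, ?_⟩ :
        {g : G // IsConj (S.ι (rep X)) g ∧ IsConj (S.ι (rep Y)) (g⁻¹ * S.ι x)})) ⟨?_, ?_⟩)).symm
  · rw [← map_inv, ← map_mul, hinvol u.1 (by rw [u.2.1]; exact hX)]
    exact (S.isConj_invol hY _).2 u.2.2
  · intro u v h
    exact Subtype.ext (S.inj (congrArg Subtype.val h))
  · rintro ⟨g, hg1, hg2⟩
    have h1 := hsq X g hX hg1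
    have h2 := hsq Y _ hY hg2
    have hgi : g⁻¹ = g := inv_eq_of_mul_eq_one_right h1
    rw [hgi] at h2
    have h3 : g * S.ι x * g⁻¹ = S.ι x⁻¹ := by
      rw [hgi, map_inv]
      exact eq_inv_of_mul_eq_one_left (by rw [← h2]; group)
    obtain ⟨u, rfl⟩ := S.fus hx h3
    have hu := (S.isConj_invol hX u).1 hg1
    rw [hgi, ← map_mul] at hg2
    exact ⟨⟨u, hu, (S.isConj_invol hY _).1 hg2⟩, rfl⟩

theorem Setting.class_equation [Fintype G] (k : Fin 3) {X Y : Fin 14} (hX : X ∈ [2, 6])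
    (hY : Y ∈ [2, 6]) (hN : ∀ c, pairCount X Y (rep c) = (nT k).getD c 0) (i : Fin 6) :
    (648 * (classSize (S.ι (rep X)) : ℂ) * (classSize (S.ι (rep Y)) : ℂ)) *
      ∑ χ : Cfsg.IrrCharacter G, (S.coef i χ : ℂ) *
        ((χ : G → ℂ) (S.ι (rep X)) * (χ : G → ℂ) (S.ι (rep Y)) / (χ : G → ℂ) 1) =
      (Nat.card G : ℂ) * (kT k i : ℂ) := by
  classical
  obtain ⟨hA, hB⟩ := class_check k i
  have h := sum_quad (fun c => valP i c * ((nT k).getD c 0 : ℤ))
    (fun c => valQ i c * ((nT k).getD c 0 : ℤ)) hA hB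
  push_cast at h
  rw [← h, Finset.mul_sum, Finset.mul_sum]
  have h1 : ∀ w : W, (Nat.card G : ℂ) * ((valP i (cl w) : ℂ) * ((nT k).getD (cl w) 0 : ℂ) +
      (valQ i (cl w) : ℂ) * ((nT k).getD (cl w) 0 : ℂ) * s3) =
      ∑ χ : Cfsg.IrrCharacter G, al i w * conj ((χ : G → ℂ) (S.ι w)) *
        ((χ : G → ℂ) 1 * (omega (χ : G → ℂ) (classInd (S.ι (rep X))) *
          omega (χ : G → ℂ) (classInd (S.ι (rep Y))))) := by
    intro w
    by_cases hw : inS (cl w) = true
    · have h2 := conv_eq_sum (classInd_isClassFunction (S.ι (rep X)))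
        (classInd_isClassFunction (S.ι (rep Y))) (S.ι w)
      rw [S.conv_value hX hY hw, hN] at h2
      calc _ = al i w * ((Nat.card G : ℂ) * ((nT k).getD (cl w) 0 : ℂ)) := by
            rw [al_apply]; ring
        _ = _ := by
            rw [h2, Finset.mul_sum]
            exact Finset.sum_congr rfl fun χ _ => by ring
    · obtain ⟨h2, h3⟩ := val_supp i (cl w) (by simpa using hw)
      simp [al_eq_zero hw, h2, h3]
  rw [Finset.sum_congr rfl fun w _ => h1 w, Finset.sum_comm]
  refine Finset.sum_congr rfl fun χ _ => ?_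
  rw [← Finset.sum_mul, omega_classInd, omega_classInd]
  have h4 : ∑ w : W, al i w * conj ((χ : G → ℂ) (S.ι w)) = 648 * (S.coef i χ : ℂ) := by
    rw [S.coef_spec]; ring
  rw [h4]
  have h5 := irr_one_ne_zero χ.2
  field_simp

omit [Fintype (Cfsg.IrrCharacter G)] in
theorem Setting.value_real {X : Fin 14} (hX : X ∈ [2, 6]) (χ : Cfsg.IrrCharacter G) :
    (χ : G → ℂ) (S.ι (rep X)) = (((χ : G → ℂ) (S.ι (rep X))).re : ℂ) := by
  have h := char_inv (irr_isCharacter χ) (S.ι (rep X))
  have h2 : (rep X)⁻¹ = rep X :=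
    inv_eq_of_mul_eq_one_right ((involution_iff (rep X)).2 (by rwa [cl_rep])).2
  rw [← map_inv, h2] at h
  exact (Complex.conj_eq_iff_re.1 h.symm).symm

theorem quad_scale (k : Fin 3) (i : Fin 6) :
    (kT k i : ℝ) = ![729 * yyT i, 1458 * yzT i, 2916 * zzT i] k := by
  fin_cases k <;> fin_cases i <;> norm_num [kT, yyT, yzT, zzT]

/-- The configuration attached to the group. -/
theorem Setting.exists_degree_three :
    ∃ χ : Cfsg.IrrCharacter G, (χ : G → ℂ) 1 = 3 ∧ S.coef 0 χ ≠ 0 := by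
  classical
  haveI := Fintype.ofFinite G
  choose d hd using fun χ : Cfsg.IrrCharacter G => char_one_nat (irr_isCharacter χ)
  have hdpos : ∀ χ, 0 < d χ := fun χ => Nat.pos_of_ne_zero fun h =>
    irr_one_ne_zero χ.2 (by rw [hd, h, Nat.cast_zero])
  obtain ⟨C2, hC2⟩ : ∃ C, C = (classSize (S.ι (rep 2)) : ℝ) := ⟨_, rfl⟩
  obtain ⟨C6, hC6⟩ : ∃ C, C = (classSize (S.ι (rep 6)) : ℝ) := ⟨_, rfl⟩
  have hcs : ∀ x : G, classSize x ≠ 0 := fun x h => by
    have := classSize_mul_card_centralizer x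
    rw [h, zero_mul] at this
    exact Nat.card_pos.ne' this.symm
  have h2 : C2 ≠ 0 := by rw [hC2]; exact Nat.cast_ne_zero.2 (hcs _)
  have h6 : C6 ≠ 0 := by rw [hC6]; exact Nat.cast_ne_zero.2 (hcs _)
  obtain ⟨n, hn⟩ : ∃ n, n = Real.sqrt ((Nat.card G : ℝ) / 648) := ⟨_, rfl⟩
  have hnn : n * n = (Nat.card G : ℝ) / 648 := by rw [hn]; exact Real.mul_self_sqrt (by positivity)
  have hn0 : n ≠ 0 := fun h => by
    rw [h, mul_zero] at hnn
    rcases div_eq_zero_iff.1 hnn.symm with h0 | h0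
    · exact Nat.card_pos.ne' (Nat.cast_eq_zero.1 h0)
    · norm_num at h0
  let y : Cfsg.IrrCharacter G → ℝ := fun χ => ((χ : G → ℂ) (S.ι (rep 2))).re * (C2 / (27 * n))
  let z : Cfsg.IrrCharacter G → ℝ := fun χ => ((χ : G → ℂ) (S.ι (rep 6))).re * (C6 / (54 * n))
  have hlin : ∀ (i : Fin 6) (u : W), ¬ inS (cl u) = true →
      ∑ χ : Cfsg.IrrCharacter G, (S.coef i χ : ℝ) * ((χ : G → ℂ) (S.ι u)).re = 0 := by
    intro i u hu
    have := congrArg Complex.re (S.sum_coef_eq_zero i u hu)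
    simpa [Complex.re_sum] using this
  have hcl : ∀ (k : Fin 3) {X Y : Fin 14}, X ∈ [2, 6] → Y ∈ [2, 6] →
      (∀ c, pairCount X Y (rep c) = (nT k).getD c 0) → ∀ i : Fin 6,
      (∑ χ : Cfsg.IrrCharacter G, (S.coef i χ : ℝ) *
        (((χ : G → ℂ) (S.ι (rep X))).re * ((χ : G → ℂ) (S.ι (rep Y))).re / (d χ : ℝ))) *
        ((classSize (S.ι (rep X)) : ℝ) * (classSize (S.ι (rep Y)) : ℝ) / (n * n)) =
      (kT k i : ℝ) := by
    intro k X Y hX hY hN i
    have h := S.class_equation k hX hY hN i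
    simp only [hd] at h
    rw [Finset.sum_congr rfl (g := fun χ : Cfsg.IrrCharacter G => (((S.coef i χ : ℝ) *
      (((χ : G → ℂ) (S.ι (rep X))).re * ((χ : G → ℂ) (S.ι (rep Y))).re / (d χ : ℝ)) : ℝ) : ℂ))
      (fun χ _ => by rw [S.value_real hX χ, S.value_real hY χ]; push_cast; simp)] at h
    rw [← Complex.ofReal_sum] at h
    have h' := congrArg Complex.re h
    simp only [Complex.mul_re, Complex.mul_im, Complex.natCast_re, Complex.natCast_im,
      Complex.intCast_re, Complex.intCast_im, Complex.ofReal_re, Complex.ofReal_im,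
      Complex.re_ofNat, Complex.im_ofNat, mul_zero, zero_mul, sub_zero, add_zero] at h'
    rw [hnn]
    have hG : (Nat.card G : ℝ) ≠ 0 := Nat.cast_ne_zero.2 Nat.card_pos.ne'
    rw [div_div_eq_mul_div, mul_div_assoc', div_eq_iff hG]
    linear_combination h'
  let C : Config (Cfsg.IrrCharacter G) :=
    { co := S.coef
      deg := d
      deg_pos := hdpos
      y := y
      z := z
      one := ⟨fun _ => 1, isIrrCharacter_one⟩
      deg_one := by
        have : (d ⟨fun _ => 1, isIrrCharacter_one⟩ : ℂ) = 1 :=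
          (hd ⟨fun _ => 1, isIrrCharacter_one⟩).symm
        exact_mod_cast this
      co_one := S.coef_one
      gram := S.gram
      lin := fun i => by
        have h := hlin i 1 (by rw [(cl_eq_zero 1).2 rfl]; decide)
        simpa [hd] using h
      lin_y := fun i => by
        simp only [y, ← mul_assoc, ← Finset.sum_mul]
        rw [hlin i (rep 2) (by rw [cl_rep]; decide), zero_mul]
      lin_z := fun i => by
        simp only [z, ← mul_assoc, ← Finset.sum_mul]
        rw [hlin i (rep 6) (by rw [cl_rep]; decide), zero_mul]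
      quad_yy := fun i => by
        have h := hcl 0 (X := 2) (Y := 2) (by decide) (by decide) pairCount_rep.1 i
        rw [quad_scale, ← hC2, Finset.sum_mul] at h
        simp only [Matrix.cons_val_zero] at h
        rw [show yyT i = (729 * yyT i) / 729 by ring, ← h, Finset.sum_div]
        refine Finset.sum_congr rfl fun χ _ => ?_
        simp only [y]
        ring
      quad_yz := fun i => by
        have h := hcl 1 (X := 2) (Y := 6) (by decide) (by decide) pairCount_rep.2.1 i
        rw [quad_scale, ← hC2, ← hC6, Finset.sum_mul] at h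
        simp only [Matrix.cons_val_one, Matrix.cons_val_zero] at h
        rw [show yzT i = (1458 * yzT i) / 1458 by ring, ← h, Finset.sum_div]
        refine Finset.sum_congr rfl fun χ _ => ?_
        simp only [y, z]
        ring
      quad_zz := fun i => by
        have h := hcl 2 (X := 6) (Y := 6) (by decide) (by decide) pairCount_rep.2.2 i
        rw [quad_scale, ← hC6, Finset.sum_mul] at h
        simp only [Matrix.cons_val] at h
        rw [show zzT i = (2916 * zzT i) / 2916 by ring, ← h, Finset.sum_div]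
        refine Finset.sum_congr rfl fun χ _ => ?_
        simp only [z]
        ring }
  obtain ⟨χ, h3, hne⟩ := Config.good C
  refine ⟨χ, ?_, hne⟩
  have h3' : d χ = 3 := h3
  rw [hd, h3']
  norm_num

end Cfsg.Agent.RecogNine
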