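import Cfsg.Agent.RecogNine.Algebra

/-!
# The configuration of the exceptional characters

Six integral vectors with given inner products and relations between the degrees and the
normalised values at the two classes of involutions have a constituent of degree three.
-/

set_option autoImplicit false
set_option linter.style.haveILetI false

namespace Cfsg.Agent.RecogNine

/-- The inner products of the six combinations. -/
def gramT : Fin 6 → Fin 6 → ℤ :=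
  ![![3, -1, 1, 1, -1, 0], ![-1, 3, 1, -1, 1, -1], ![1, 1, 4, 1, 0, 0], ![1, -1, 1, 4, 0, 1],
    ![-1, 1, 0, 0, 2, 0], ![0, -1, 0, 1, 0, 2]]

/-- The multiplicities of the principal character. -/
def oneT : Fin 6 → ℤ := ![0, 0, 1, 1, 0, 0]

/-- The right hand sides of the quadratic relations. -/
noncomputable def yyT : Fin 6 → ℝ := ![0, 8 / 3, 8 / 3, 4 / 3, 0, 0]
/-- The right hand sides of the quadratic relations. -/
noncomputable def yzT : Fin 6 → ℝ := ![0, 0, 4 / 3, 2 / 3, 0, 0]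
/-- The right hand sides of the quadratic relations. -/
noncomputable def zzT : Fin 6 → ℝ := ![2 / 3, 0, 4 / 3, 1, 0, 0]

/-- The numerical data. -/
structure Config (I : Type*) [Fintype I] where
  /-- The multiplicities. -/
  co : Fin 6 → I → ℤ
  /-- The degrees. -/
  deg : I → ℕ
  deg_pos : ∀ x, 0 < deg x
  /-- The values at the first class. -/
  y : I → ℝ
  /-- The values at the second class. -/
  z : I → ℝ
  /-- The principal character. -/
  one : I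
  deg_one : deg one = 1
  co_one : ∀ i, co i one = oneT i
  gram : ∀ i j, ∑ x, co i x * co j x = gramT i j
  lin : ∀ i, ∑ x, (co i x : ℝ) * (deg x : ℝ) = 0
  lin_y : ∀ i, ∑ x, (co i x : ℝ) * y x = 0
  lin_z : ∀ i, ∑ x, (co i x : ℝ) * z x = 0
  quad_yy : ∀ i, ∑ x, (co i x : ℝ) * (y x * y x / (deg x : ℝ)) = yyT i
  quad_yz : ∀ i, ∑ x, (co i x : ℝ) * (y x * z x / (deg x : ℝ)) = yzT i
  quad_zz : ∀ i, ∑ x, (co i x : ℝ) * (z x * z x / (deg x : ℝ)) = zzT i

theorem prod_unit {a v : ℤ} (ha : a = 1 ∨ a = -1) (hv : -1 ≤ v ∧ v ≤ 1) :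
    -1 ≤ a * v ∧ a * v ≤ 1 ∧ v ^ 2 = ((a * v).natAbs : ℤ) := by
  obtain ⟨h1, h2⟩ := hv
  interval_cases v <;> rcases ha with rfl | rfl <;> decide

theorem eq_mul_of_prod {a v c : ℤ} (ha : a = 1 ∨ a = -1) (h : a * v = c) : v = c * a := by
  rcases ha with rfl | rfl <;> omega

section Lists

variable {I : Type*} [Fintype I]

theorem list_sum_le (v : I → ℤ) {l : List I} (hl : l.Nodup) :
    (l.map fun x => v x ^ 2).sum ≤ ∑ x, v x ^ 2 := by
  classical
  rw [← List.sum_toFinset _ hl]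
  exact Finset.sum_le_sum_of_subset_of_nonneg (Finset.subset_univ _) fun x _ _ => sq_nonneg _

theorem list_supp (v : I → ℤ) {l : List I} (hl : l.Nodup)
    (h : (l.map fun x => v x ^ 2).sum = ∑ x, v x ^ 2) : ∀ x, x ∉ l → v x = 0 := by
  intro x hx
  have h1 := list_sum_le v (l := x :: l) (List.nodup_cons.2 ⟨hx, hl⟩)
  rw [List.map_cons, List.sum_cons, h] at h1
  exact pow_eq_zero_iff (n := 2) two_ne_zero |>.1 (le_antisymm (by linarith) (sq_nonneg _))

theorem list_expand {R : Type*} [CommRing R] (v : I → ℤ) {l : List I} (hl : l.Nodup)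
    (h : ∀ x, x ∉ l → v x = 0) (f : I → R) :
    ∑ x, (v x : R) * f x = (l.map fun x => (v x : R) * f x).sum := by
  classical
  rw [← List.sum_toFinset _ hl]
  refine (Finset.sum_subset (Finset.subset_univ _) fun x _ hx => ?_).symm
  rw [h x (fun hm => hx (List.mem_toFinset.2 hm))]
  simp

theorem list_extra (v : I → ℤ) {l : List I} (hl : l.Nodup)
    (h : (l.map fun x => v x ^ 2).sum < ∑ x, v x ^ 2) : ∃ x, x ∉ l ∧ v x ≠ 0 := by
  by_contra hc
  push Not at hc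
  have h1 := list_expand (R := ℤ) v hl hc v
  simp only [Int.cast_id, ← sq] at h1
  omega

end Lists

namespace Config

variable {I : Type*} [Fintype I] (C : Config I)

theorem norm (i : Fin 6) : ∑ x, C.co i x ^ 2 = gramT i i := by
  rw [← C.gram i i]
  exact Finset.sum_congr rfl fun x _ => by ring

theorem bound (i : Fin 6) {x : I} (hx : x ≠ C.one) : -1 ≤ C.co i x ∧ C.co i x ≤ 1 := by
  have h1 := list_sum_le (C.co i) (l := [x, C.one]) (by simp [hx])
  rw [C.norm, List.map_cons, List.map_cons, List.map_nil, List.sum_cons, List.sum_cons,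
    List.sum_nil, C.co_one] at h1
  have h2 : gramT i i - oneT i ^ 2 ≤ 3 :=
    (by decide : ∀ i : Fin 6, gramT i i - oneT i ^ 2 ≤ 3) i
  constructor <;> nlinarith

theorem unit_of_ne {i : Fin 6} {x : I} (hx : x ≠ C.one) (h : C.co i x ≠ 0) :
    C.co i x = 1 ∨ C.co i x = -1 := by
  have := C.bound i hx
  omega

theorem ne_one_of_ne {i : Fin 6} {x : I} (hi : oneT i = 0) (h : C.co i x ≠ 0) : x ≠ C.one := by
  rintro rfl
  exact h (by rw [C.co_one, hi])

theorem unit_zero {i : Fin 6} {x : I} (hi : oneT i = 0) (h : C.co i x ≠ 0) :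
    C.co i x = 1 ∨ C.co i x = -1 :=
  C.unit_of_ne (C.ne_one_of_ne hi h) h

theorem inner_list (i j : Fin 6) {l : List I} (hl : l.Nodup)
    (h : ∀ x, x ∉ l → C.co i x = 0) :
    (l.map fun x => C.co i x * C.co j x).sum = gramT i j := by
  rw [← C.gram i j]
  simpa using (list_expand (R := ℤ) (C.co i) hl h (C.co j)).symm

/-- The signed degree and values of a constituent. -/
structure Val (i : Fin 6) (x : I) (P Y Z : ℝ) : Prop where
  deg : (C.co i x : ℝ) * (C.deg x : ℝ) = P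
  val_y : (C.co i x : ℝ) * C.y x = Y
  val_z : (C.co i x : ℝ) * C.z x = Z
  yy : (C.co i x : ℝ) * (C.y x * C.y x / (C.deg x : ℝ)) = Y ^ 2 / P
  yz : (C.co i x : ℝ) * (C.y x * C.z x / (C.deg x : ℝ)) = Y * Z / P
  zz : (C.co i x : ℝ) * (C.z x * C.z x / (C.deg x : ℝ)) = Z ^ 2 / P

theorem val_mk {i : Fin 6} {x : I} {P Y Z : ℝ} (h : C.co i x = 1 ∨ C.co i x = -1)
    (hP : (C.co i x : ℝ) * (C.deg x : ℝ) = P) (hY : (C.co i x : ℝ) * C.y x = Y)
    (hZ : (C.co i x : ℝ) * C.z x = Z) : C.Val i x P Y Z := by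
  refine ⟨hP, hY, hZ, ?_, ?_, ?_⟩ <;>
  · rw [← hP]
    first | rw [← hY, ← hZ] | rw [← hY] | rw [← hZ]
    rcases h with h | h <;> rw [h] <;> push_cast <;> ring

variable {C}

theorem Val.same {i j : Fin 6} {x : I} {P Y Z : ℝ} (v : C.Val i x P Y Z)
    (h : C.co j x = C.co i x) : C.Val j x P Y Z := by
  obtain ⟨a, b, c, d, e, f⟩ := v
  exact ⟨by rw [h, a], by rw [h, b], by rw [h, c], by rw [h, d], by rw [h, e], by rw [h, f]⟩

theorem Val.opp {i j : Fin 6} {x : I} {P Y Z : ℝ} (v : C.Val i x P Y Z)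
    (h : C.co j x = -C.co i x) : C.Val j x (-P) (-Y) (-Z) := by
  obtain ⟨a, b, c, d, e, f⟩ := v
  have hc : (C.co j x : ℝ) = -(C.co i x : ℝ) := by rw [h]; push_cast; ring
  refine ⟨?_, ?_, ?_, ?_, ?_, ?_⟩ <;> rw [hc, neg_mul]
  · rw [a]
  · rw [b]
  · rw [c]
  · rw [d, neg_sq, div_neg]
  · rw [e, neg_mul_neg, div_neg]
  · rw [f, neg_sq, div_neg]

theorem Val.deg_ne {i : Fin 6} {x : I} {P Y Z : ℝ} (v : C.Val i x P Y Z) (h : C.co i x ≠ 0) :
    P ≠ 0 := by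
  rw [← v.deg]
  exact mul_ne_zero (Int.cast_ne_zero.2 h) (Nat.cast_ne_zero.2 (C.deg_pos x).ne')

variable (C)

/-- The relations of a vector with four constituents. -/
theorem eq4 {i : Fin 6} {a b c d : I} (hl : [a, b, c, d].Nodup)
    (h : ∀ x, x ∉ [a, b, c, d] → C.co i x = 0)
    {P1 Y1 Z1 P2 Y2 Z2 P3 Y3 Z3 P4 Y4 Z4 : ℝ} (v1 : C.Val i a P1 Y1 Z1)
    (v2 : C.Val i b P2 Y2 Z2) (v3 : C.Val i c P3 Y3 Z3) (v4 : C.Val i d P4 Y4 Z4) :
    P1 + P2 + P3 + P4 = 0 ∧ Y1 + Y2 + Y3 + Y4 = 0 ∧ Z1 + Z2 + Z3 + Z4 = 0 ∧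
      Y1 ^ 2 / P1 + Y2 ^ 2 / P2 + Y3 ^ 2 / P3 + Y4 ^ 2 / P4 = yyT i ∧
      Y1 * Z1 / P1 + Y2 * Z2 / P2 + Y3 * Z3 / P3 + Y4 * Z4 / P4 = yzT i ∧
      Z1 ^ 2 / P1 + Z2 ^ 2 / P2 + Z3 ^ 2 / P3 + Z4 ^ 2 / P4 = zzT i := by
  have e : ∀ f : I → ℝ, ∑ x, (C.co i x : ℝ) * f x = (C.co i a : ℝ) * f a + (C.co i b : ℝ) * f b +
      (C.co i c : ℝ) * f c + (C.co i d : ℝ) * f d := fun f => by
    rw [list_expand _ hl h]; simp [add_assoc]
  refine ⟨?_, ?_, ?_, ?_, ?_, ?_⟩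
  · rw [← v1.deg, ← v2.deg, ← v3.deg, ← v4.deg]; exact (e _).symm.trans (C.lin i)
  · rw [← v1.val_y, ← v2.val_y, ← v3.val_y, ← v4.val_y]; exact (e _).symm.trans (C.lin_y i)
  · rw [← v1.val_z, ← v2.val_z, ← v3.val_z, ← v4.val_z]; exact (e _).symm.trans (C.lin_z i)
  · rw [← v1.yy, ← v2.yy, ← v3.yy, ← v4.yy]; exact (e _).symm.trans (C.quad_yy i)
  · rw [← v1.yz, ← v2.yz, ← v3.yz, ← v4.yz]; exact (e _).symm.trans (C.quad_yz i)
  · rw [← v1.zz, ← v2.zz, ← v3.zz, ← v4.zz]; exact (e _).symm.trans (C.quad_zz i)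

/-- The relations of a vector with three constituents. -/
theorem eq3 {i : Fin 6} {a b c : I} (hl : [a, b, c].Nodup)
    (h : ∀ x, x ∉ [a, b, c] → C.co i x = 0)
    {P1 Y1 Z1 P2 Y2 Z2 P3 Y3 Z3 : ℝ} (v1 : C.Val i a P1 Y1 Z1)
    (v2 : C.Val i b P2 Y2 Z2) (v3 : C.Val i c P3 Y3 Z3) :
    P1 + P2 + P3 = 0 ∧ Y1 + Y2 + Y3 = 0 ∧ Z1 + Z2 + Z3 = 0 ∧
      Y1 ^ 2 / P1 + Y2 ^ 2 / P2 + Y3 ^ 2 / P3 = yyT i ∧
      Y1 * Z1 / P1 + Y2 * Z2 / P2 + Y3 * Z3 / P3 = yzT i ∧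
      Z1 ^ 2 / P1 + Z2 ^ 2 / P2 + Z3 ^ 2 / P3 = zzT i := by
  have e : ∀ f : I → ℝ, ∑ x, (C.co i x : ℝ) * f x = (C.co i a : ℝ) * f a + (C.co i b : ℝ) * f b +
      (C.co i c : ℝ) * f c := fun f => by
    rw [list_expand _ hl h]; simp [add_assoc]
  refine ⟨?_, ?_, ?_, ?_, ?_, ?_⟩
  · rw [← v1.deg, ← v2.deg, ← v3.deg]; exact (e _).symm.trans (C.lin i)
  · rw [← v1.val_y, ← v2.val_y, ← v3.val_y]; exact (e _).symm.trans (C.lin_y i)
  · rw [← v1.val_z, ← v2.val_z, ← v3.val_z]; exact (e _).symm.trans (C.lin_z i)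
  · rw [← v1.yy, ← v2.yy, ← v3.yy]; exact (e _).symm.trans (C.quad_yy i)
  · rw [← v1.yz, ← v2.yz, ← v3.yz]; exact (e _).symm.trans (C.quad_yz i)
  · rw [← v1.zz, ← v2.zz, ← v3.zz]; exact (e _).symm.trans (C.quad_zz i)

theorem eq2 {i : Fin 6} {a b : I} (hl : [a, b].Nodup) (h : ∀ x, x ∉ [a, b] → C.co i x = 0)
    {P1 Y1 Z1 P2 Y2 Z2 : ℝ} (v1 : C.Val i a P1 Y1 Z1) (v2 : C.Val i b P2 Y2 Z2) :
    P1 + P2 = 0 ∧ Y1 + Y2 = 0 ∧ Z1 + Z2 = 0 := by
  have e : ∀ f : I → ℝ, ∑ x, (C.co i x : ℝ) * f x = (C.co i a : ℝ) * f a + (C.co i b : ℝ) * f b :=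
    fun f => by rw [list_expand _ hl h]; simp
  refine ⟨?_, ?_, ?_⟩
  · rw [← v1.deg, ← v2.deg]; exact (e _).symm.trans (C.lin i)
  · rw [← v1.val_y, ← v2.val_y]; exact (e _).symm.trans (C.lin_y i)
  · rw [← v1.val_z, ← v2.val_z]; exact (e _).symm.trans (C.lin_z i)

/-- Subtraction of multiples of the degrees. -/
noncomputable def shift (e f : ℝ) : Config I :=
  { C with
    y := fun x => C.y x - e * (C.deg x : ℝ)
    z := fun x => C.z x - f * (C.deg x : ℝ)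
    lin_y := fun i => by
      simp only [mul_sub, Finset.sum_sub_distrib, C.lin_y, zero_sub, neg_eq_zero]
      simp only [mul_left_comm _ e, ← Finset.mul_sum, C.lin, mul_zero]
    lin_z := fun i => by
      simp only [mul_sub, Finset.sum_sub_distrib, C.lin_z, zero_sub, neg_eq_zero]
      simp only [mul_left_comm _ f, ← Finset.mul_sum, C.lin, mul_zero]
    quad_yy := fun i => by
      have h : ∀ x, (C.co i x : ℝ) * ((C.y x - e * C.deg x) * (C.y x - e * C.deg x) / C.deg x) =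
          (C.co i x : ℝ) * (C.y x * C.y x / C.deg x) - 2 * e * ((C.co i x : ℝ) * C.y x) +
            e * e * ((C.co i x : ℝ) * C.deg x) := fun x => by
        have : (C.deg x : ℝ) ≠ 0 := Nat.cast_ne_zero.2 (C.deg_pos x).ne'
        field_simp; ring
      simp only [h, Finset.sum_add_distrib, Finset.sum_sub_distrib, ← Finset.mul_sum, C.lin_y,
        C.lin, C.quad_yy, mul_zero, sub_zero, add_zero]
    quad_yz := fun i => by
      have h : ∀ x, (C.co i x : ℝ) * ((C.y x - e * C.deg x) * (C.z x - f * C.deg x) / C.deg x) =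
          (C.co i x : ℝ) * (C.y x * C.z x / C.deg x) - f * ((C.co i x : ℝ) * C.y x) -
            e * ((C.co i x : ℝ) * C.z x) + e * f * ((C.co i x : ℝ) * C.deg x) := fun x => by
        have : (C.deg x : ℝ) ≠ 0 := Nat.cast_ne_zero.2 (C.deg_pos x).ne'
        field_simp; ring
      simp only [h, Finset.sum_add_distrib, Finset.sum_sub_distrib, ← Finset.mul_sum, C.lin_y,
        C.lin_z, C.lin, C.quad_yz, mul_zero, sub_zero, add_zero]
    quad_zz := fun i => by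
      have h : ∀ x, (C.co i x : ℝ) * ((C.z x - f * C.deg x) * (C.z x - f * C.deg x) / C.deg x) =
          (C.co i x : ℝ) * (C.z x * C.z x / C.deg x) - 2 * f * ((C.co i x : ℝ) * C.z x) +
            f * f * ((C.co i x : ℝ) * C.deg x) := fun x => by
        have : (C.deg x : ℝ) ≠ 0 := Nat.cast_ne_zero.2 (C.deg_pos x).ne'
        field_simp; ring
      simp only [h, Finset.sum_add_distrib, Finset.sum_sub_distrib, ← Finset.mul_sum, C.lin_z,
        C.lin, C.quad_zz, mul_zero, sub_zero, add_zero] }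

/-- What is to be proved. -/
def Good : Prop := ∃ x, C.deg x = 3 ∧ C.co 0 x ≠ 0

/-- The constituents of the four small vectors. -/
structure Base (p q r r' s s2 s3 : I) : Prop where
  nodup : [C.one, p, q, r, r', s, s2, s3].Nodup
  supp0 : ∀ x, x ∉ [p, q, r] → C.co 0 x = 0
  supp1 : ∀ x, x ∉ [r, s, s2] → C.co 1 x = 0
  supp4 : ∀ x, x ∉ [r, r'] → C.co 4 x = 0
  supp5 : ∀ x, x ∉ [s2, s3] → C.co 5 x = 0
  up : C.co 0 p ≠ 0
  uq : C.co 0 q ≠ 0
  ur : C.co 0 r ≠ 0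
  ur' : C.co 4 r' ≠ 0
  us : C.co 1 s ≠ 0
  us2 : C.co 1 s2 ≠ 0
  us3 : C.co 5 s3 ≠ 0
  r1 : C.co 1 r = -C.co 0 r
  r4 : C.co 4 r = -C.co 0 r
  s2_5 : C.co 5 s2 = -C.co 1 s2
  yr : C.y r = 0
  zr : C.z r = 0

theorem Base.swap {p q r r' s s2 s3 : I} (b : C.Base p q r r' s s2 s3) :
    C.Base q p r r' s s2 s3 := by
  refine { b with
    nodup := ((List.Perm.swap q p _).cons C.one).nodup_iff.1 b.nodup
    supp0 := fun x hx => b.supp0 x ?_
    up := b.uq
    uq := b.up }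
  simp only [List.mem_cons, List.not_mem_nil, or_false] at hx ⊢
  tauto

/-- The values at the constituents of the four small vectors. -/
theorem Base.vals {p q r r' s s2 s3 : I} (b : C.Base p q r r' s s2 s3) :
    ∃ P Q T g h : ℝ, C.Val 0 p P 0 g ∧ C.Val 0 q Q 0 (-g) ∧ C.Val 0 r (-(P + Q)) 0 0 ∧
      C.Val 4 r' (-(P + Q)) 0 0 ∧ C.Val 1 s T h 0 ∧ C.Val 1 s2 (-(T + P + Q)) (-h) 0 ∧
      C.Val 5 s3 (-(T + P + Q)) (-h) 0 ∧ P ≠ 0 ∧ Q ≠ 0 ∧ T ≠ 0 ∧ P + Q ≠ 0 ∧ T + P + Q ≠ 0 ∧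
      h ≠ 0 ∧ g ^ 2 / P + g ^ 2 / Q = 2 / 3 ∧ h ^ 2 / T - h ^ 2 / (T + P + Q) = 8 / 3 := by
  have hnd := b.nodup
  simp only [List.nodup_cons, List.mem_cons, List.not_mem_nil, or_false, not_or,
    List.nodup_nil, and_true] at hnd
  obtain ⟨P, hP⟩ : ∃ P, (C.co 0 p : ℝ) * (C.deg p : ℝ) = P := ⟨_, rfl⟩
  obtain ⟨Q, hQ⟩ : ∃ Q, (C.co 0 q : ℝ) * (C.deg q : ℝ) = Q := ⟨_, rfl⟩
  obtain ⟨T, hT⟩ : ∃ T, (C.co 1 s : ℝ) * (C.deg s : ℝ) = T := ⟨_, rfl⟩
  obtain ⟨Yp, hYp⟩ : ∃ Y, (C.co 0 p : ℝ) * C.y p = Y := ⟨_, rfl⟩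
  obtain ⟨g, hg⟩ : ∃ g, (C.co 0 p : ℝ) * C.z p = g := ⟨_, rfl⟩
  obtain ⟨h, hh⟩ : ∃ h, (C.co 1 s : ℝ) * C.y s = h := ⟨_, rfl⟩
  obtain ⟨z0, hz0⟩ : ∃ z, (C.co 1 s : ℝ) * C.z s = z := ⟨_, rfl⟩
  have up := C.unit_zero (by decide) b.up
  have uq := C.unit_zero (by decide) b.uq
  have ur := C.unit_zero (by decide) b.ur
  have us := C.unit_zero (by decide) b.us
  have us2 := C.unit_zero (by decide) b.us2
  have ur' := C.unit_zero (by decide) b.ur'
  have us3 := C.unit_zero (by decide) b.us3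
  have v1 : C.Val 0 p P Yp g := C.val_mk up hP hYp hg
  have v2 := C.val_mk uq hQ rfl rfl
  have v3 := C.val_mk ur rfl (show (C.co 0 r : ℝ) * C.y r = 0 by rw [b.yr, mul_zero])
    (show (C.co 0 r : ℝ) * C.z r = 0 by rw [b.zr, mul_zero])
  obtain ⟨a1, a2, a3, a4, -, a6⟩ := C.eq3 (by simp [hnd]) b.supp0 v1 v2 v3
  rw [show (C.co 0 r : ℝ) * (C.deg r : ℝ) = -(P + Q) by linarith] at v3 a4 a6
  rw [show (C.co 0 q : ℝ) * C.y q = -Yp by linarith,
    show (C.co 0 q : ℝ) * C.z q = -g by linarith] at v2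
  rw [show (C.co 0 q : ℝ) * C.y q = -Yp by linarith] at a4
  rw [show (C.co 0 q : ℝ) * C.z q = -g by linarith] at a6
  have hP0 := v1.deg_ne b.up
  have hQ0 := v2.deg_ne b.uq
  have hL0 : P + Q ≠ 0 := fun h0 => v3.deg_ne b.ur (by linarith)
  simp only [neg_sq, ne_eq, two_ne_zero, not_false_eq_true, zero_pow, zero_div, add_zero, yyT,
    zzT, Fin.isValue, Matrix.cons_val_zero] at a4 a6
  have hY0 : Yp = 0 := by
    field_simp at a4
    rcases mul_eq_zero.1 (show Yp ^ 2 * (P + Q) = 0 by linarith) with h0 | h0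
    · exact pow_eq_zero_iff (n := 2) two_ne_zero |>.1 h0
    · exact absurd h0 hL0
  subst hY0
  rw [neg_zero] at v2
  have d1 : C.Val 1 r (P + Q) 0 0 := by simpa using v3.opp b.r1
  have d2 := C.val_mk us hT hh hz0
  have d3 := C.val_mk us2 rfl rfl rfl
  obtain ⟨c1, c2, c3, c4, -, c6⟩ := C.eq3 (by simp [hnd]) b.supp1 d1 d2 d3
  rw [show (C.co 1 s2 : ℝ) * (C.deg s2 : ℝ) = -(T + P + Q) by linarith,
    show (C.co 1 s2 : ℝ) * C.y s2 = -h by linarith,
    show (C.co 1 s2 : ℝ) * C.z s2 = -z0 by linarith] at d3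
  rw [show (C.co 1 s2 : ℝ) * (C.deg s2 : ℝ) = -(T + P + Q) by linarith,
    show (C.co 1 s2 : ℝ) * C.y s2 = -h by linarith] at c4
  rw [show (C.co 1 s2 : ℝ) * (C.deg s2 : ℝ) = -(T + P + Q) by linarith,
    show (C.co 1 s2 : ℝ) * C.z s2 = -z0 by linarith] at c6
  have hT0 := d2.deg_ne b.us
  have hR0 : T + P + Q ≠ 0 := fun h0 => d3.deg_ne b.us2 (by linarith)
  simp only [neg_sq, div_neg, ne_eq, two_ne_zero, not_false_eq_true, zero_pow, zero_div, zero_add,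
    yyT, zzT, Fin.isValue, Matrix.cons_val_one, Matrix.cons_val_zero] at c4 c6
  have hz : z0 = 0 := by
    field_simp at c6
    rcases mul_eq_zero.1 (show z0 ^ 2 * (P + Q) = 0 by linarith) with h0 | h0
    · exact pow_eq_zero_iff (n := 2) two_ne_zero |>.1 h0
    · exact absurd h0 hL0
  subst hz
  rw [neg_zero] at d3
  have e1 : C.Val 4 r (P + Q) 0 0 := by simpa using v3.opp b.r4
  have e2 := C.val_mk ur' rfl rfl rfl
  obtain ⟨f1, f2, f3⟩ := C.eq2 (by simp [hnd]) b.supp4 e1 e2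
  rw [show (C.co 4 r' : ℝ) * (C.deg r' : ℝ) = -(P + Q) by linarith,
    show (C.co 4 r' : ℝ) * C.y r' = 0 by linarith,
    show (C.co 4 r' : ℝ) * C.z r' = 0 by linarith] at e2
  have g1 : C.Val 5 s2 (T + P + Q) h 0 := by simpa using d3.opp b.s2_5
  have g2 := C.val_mk us3 rfl rfl rfl
  obtain ⟨i1, i2, i3⟩ := C.eq2 (by simp [hnd]) b.supp5 g1 g2
  rw [show (C.co 5 s3 : ℝ) * (C.deg s3 : ℝ) = -(T + P + Q) by linarith,
    show (C.co 5 s3 : ℝ) * C.y s3 = -h by linarith,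
    show (C.co 5 s3 : ℝ) * C.z s3 = 0 by linarith] at g2
  refine ⟨P, Q, T, g, h, v1, v2, v3, e2, d2, d3, g2, hP0, hQ0, hT0, hL0, hR0, ?_, a6, ?_⟩
  · rintro rfl
    norm_num at c4
  · linarith

/-- The constituents of the first two vectors. -/
structure Head (p q r s s2 : I) : Prop where
  nodup : [C.one, p, q, r, s, s2].Nodup
  supp0 : ∀ x, x ∉ [p, q, r] → C.co 0 x = 0
  supp1 : ∀ x, x ∉ [r, s, s2] → C.co 1 x = 0
  up : C.co 0 p ≠ 0
  uq : C.co 0 q ≠ 0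
  ur : C.co 0 r ≠ 0
  us : C.co 1 s ≠ 0
  us2 : C.co 1 s2 ≠ 0
  r1 : C.co 1 r = -C.co 0 r

theorem sq_unit {i : Fin 6} {x : I} (hi : oneT i = 0) (h : C.co i x ≠ 0) : C.co i x ^ 2 = 1 := by
  rcases C.unit_zero hi h with e | e <;> rw [e] <;> norm_num

theorem exists_three : ∃ a b c : I, [C.one, a, b, c].Nodup ∧ C.co 0 a ≠ 0 ∧ C.co 0 b ≠ 0 ∧
    C.co 0 c ≠ 0 ∧ ∀ x, x ∉ [a, b, c] → C.co 0 x = 0 := by
  have hn : ∑ x, C.co 0 x ^ 2 = 3 := C.norm 0
  obtain ⟨a, -, ha⟩ := list_extra (C.co 0) List.nodup_nil (by rw [hn]; simp)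
  have a1 := C.ne_one_of_ne (i := 0) (by decide) ha
  obtain ⟨b, hb', hb⟩ := list_extra (C.co 0) (List.nodup_singleton a)
    (by rw [hn]; simp [C.sq_unit (i := 0) (by decide) ha])
  have b1 := C.ne_one_of_ne (i := 0) (by decide) hb
  have hab : [a, b].Nodup := by simp at hb' ⊢; exact Ne.symm hb'
  obtain ⟨c, hc', hc⟩ := list_extra (C.co 0) hab
    (by rw [hn]; simp [C.sq_unit (i := 0) (by decide) ha, C.sq_unit (i := 0) (by decide) hb])
  have c1 := C.ne_one_of_ne (i := 0) (by decide) hc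
  have habc : [a, b, c].Nodup := by
    simp at hb' hc' ⊢
    exact ⟨⟨Ne.symm hb', Ne.symm hc'.1⟩, Ne.symm hc'.2⟩
  refine ⟨a, b, c, List.nodup_cons.2 ⟨by simp [a1.symm, b1.symm, c1.symm], habc⟩, ha, hb, hc,
    list_supp _ habc ?_⟩
  rw [hn]
  simp [C.sq_unit (i := 0) (by decide) ha, C.sq_unit (i := 0) (by decide) hb,
    C.sq_unit (i := 0) (by decide) hc]

theorem head_of (p q r : I) (hnd : [C.one, p, q, r].Nodup) (hp : C.co 0 p ≠ 0)
    (hq : C.co 0 q ≠ 0) (hr : C.co 0 r ≠ 0) (hsupp : ∀ x, x ∉ [p, q, r] → C.co 0 x = 0)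
    (dp : C.co 0 p * C.co 1 p = 0) (dq : C.co 0 q * C.co 1 q = 0)
    (dr : C.co 0 r * C.co 1 r = -1) : ∃ s s2, C.Head p q r s s2 := by
  have hn : ∑ x, C.co 1 x ^ 2 = 3 := C.norm 1
  have p1 : C.co 1 p = 0 := (mul_eq_zero.1 dp).resolve_left hp
  have q1 : C.co 1 q = 0 := (mul_eq_zero.1 dq).resolve_left hq
  have r1 : C.co 1 r = -C.co 0 r := by
    rw [eq_mul_of_prod (C.unit_zero (by decide) hr) dr]; ring
  have hr1 : C.co 1 r ≠ 0 := by rw [r1]; exact neg_ne_zero.2 hr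
  have sr := C.sq_unit (i := 1) (by decide) hr1
  obtain ⟨s, hs', hs⟩ := list_extra (C.co 1) (List.nodup_singleton r) (by rw [hn]; simp [sr])
  have ss := C.sq_unit (i := 1) (by decide) hs
  have hrs : [r, s].Nodup := by simp at hs' ⊢; exact Ne.symm hs'
  obtain ⟨s2, hs2', hs2⟩ := list_extra (C.co 1) hrs (by rw [hn]; simp [sr, ss])
  have ss2 := C.sq_unit (i := 1) (by decide) hs2
  have hrss : [r, s, s2].Nodup := by
    simp at hs' hs2' ⊢
    exact ⟨⟨Ne.symm hs', Ne.symm hs2'.1⟩, Ne.symm hs2'.2⟩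
  refine ⟨s, s2, ⟨?_, hsupp, list_supp _ hrss (by rw [hn]; simp [sr, ss, ss2]), hp, hq, hr, hs,
    hs2, r1⟩⟩
  have n1 := C.ne_one_of_ne (i := 1) (by decide) hs
  have n2 := C.ne_one_of_ne (i := 1) (by decide) hs2
  have n3 : s ≠ p := fun e => hs (e ▸ p1)
  have n4 : s2 ≠ p := fun e => hs2 (e ▸ p1)
  have n5 : s ≠ q := fun e => hs (e ▸ q1)
  have n6 : s2 ≠ q := fun e => hs2 (e ▸ q1)
  simp only [List.nodup_cons, List.mem_cons, List.not_mem_nil, or_false, not_or, List.nodup_nil,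
    and_true, not_false_eq_true] at hnd hrss ⊢
  simp [hnd, hrss, n1.symm, n2.symm, n3.symm, n4.symm, n5.symm, n6.symm]

/-- Exactly one constituent of the first vector lies in the second. -/
theorem exists_head : ∃ p q r s s2, C.Head p q r s s2 := by
  obtain ⟨a, b, c, hnd, ha, hb, hc, hs⟩ := C.exists_three
  have hnd' := (List.nodup_cons.1 hnd).2
  have h1 := C.inner_list 0 1 hnd' hs
  simp only [List.map_cons, List.map_nil, List.sum_cons, List.sum_nil, add_zero] at h1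
  rw [show gramT 0 1 = -1 by decide] at h1
  have hm := hnd
  simp only [List.nodup_cons, List.mem_cons, List.not_mem_nil, or_false, not_or, List.nodup_nil,
    and_true] at hm
  obtain ⟨pa1, pa2, pa3⟩ := prod_unit (C.unit_zero (i := 0) (by decide) ha)
    (C.bound 1 (Ne.symm hm.1.1))
  obtain ⟨pb1, pb2, pb3⟩ := prod_unit (C.unit_zero (i := 0) (by decide) hb)
    (C.bound 1 (Ne.symm hm.1.2.1))
  obtain ⟨pc1, pc2, pc3⟩ := prod_unit (C.unit_zero (i := 0) (by decide) hc)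
    (C.bound 1 (Ne.symm hm.1.2.2))
  obtain ⟨x, hx⟩ : ∃ x, C.co 0 a * C.co 1 a = x := ⟨_, rfl⟩
  obtain ⟨y, hy⟩ : ∃ y, C.co 0 b * C.co 1 b = y := ⟨_, rfl⟩
  obtain ⟨z, hz⟩ : ∃ z, C.co 0 c * C.co 1 c = z := ⟨_, rfl⟩
  rw [hx] at h1 pa1 pa2 pa3
  rw [hy] at h1 pb1 pb2 pb3
  rw [hz] at h1 pc1 pc2 pc3
  by_cases hall : x ≠ 0 ∧ y ≠ 0 ∧ z ≠ 0
  · exfalso
    obtain ⟨hx0, hy0, hz0⟩ := hall
    have hs1 : ∀ u, u ∉ [a, b, c] → C.co 1 u = 0 := by
      refine list_supp _ hnd' ?_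
      rw [C.norm]
      simp only [List.map_cons, List.map_nil, List.sum_cons, List.sum_nil, pa3, pb3, pc3]
      rw [show gramT 1 1 = 3 by decide]
      omega
    have l0 : ((C.co 0 a * C.deg a + (C.co 0 b * C.deg b + C.co 0 c * C.deg c) : ℤ) : ℝ) = 0 := by
      rw [← C.lin 0, list_expand _ hnd' hs]; simp
    have l1 : ((C.co 1 a * C.deg a + (C.co 1 b * C.deg b + C.co 1 c * C.deg c) : ℤ) : ℝ) = 0 := by
      rw [← C.lin 1, list_expand _ hnd' hs1]; simp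
    rw [Int.cast_eq_zero] at l0 l1
    rw [eq_mul_of_prod (C.unit_zero (by decide) ha) hx,
      eq_mul_of_prod (C.unit_zero (by decide) hb) hy,
      eq_mul_of_prod (C.unit_zero (by decide) hc) hz, mul_assoc, mul_assoc, mul_assoc] at l1
    have da : C.co 0 a * (C.deg a : ℤ) ≠ 0 := mul_ne_zero ha (by exact_mod_cast (C.deg_pos a).ne')
    have db : C.co 0 b * (C.deg b : ℤ) ≠ 0 := mul_ne_zero hb (by exact_mod_cast (C.deg_pos b).ne')
    have dc : C.co 0 c * (C.deg c : ℤ) ≠ 0 := mul_ne_zero hc (by exact_mod_cast (C.deg_pos c).ne')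
    rcases (by omega : x = 1 ∨ x = -1) with rfl | rfl <;>
      rcases (by omega : y = 1 ∨ y = -1) with rfl | rfl <;>
      rcases (by omega : z = 1 ∨ z = -1) with rfl | rfl <;> omega
  · have hp : (x = -1 ∧ y = 0 ∧ z = 0) ∨ (x = 0 ∧ y = -1 ∧ z = 0) ∨ (x = 0 ∧ y = 0 ∧ z = -1) := by
      omega
    rcases hp with ⟨e1, e2, e3⟩ | ⟨e1, e2, e3⟩ | ⟨e1, e2, e3⟩
    · obtain ⟨s, s2, h⟩ := C.head_of b c a (by simp [hm, ne_comm, eq_comm]) hb hc ha
        (fun u hu => hs u (by simp at hu ⊢; tauto)) (hy.trans e2) (hz.trans e3) (hx.trans e1)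
      exact ⟨_, _, _, _, _, h⟩
    · obtain ⟨s, s2, h⟩ := C.head_of a c b (by simp [hm, ne_comm, eq_comm]) ha hc hb
        (fun u hu => hs u (by simp at hu ⊢; tauto)) (hx.trans e1) (hz.trans e3) (hy.trans e2)
      exact ⟨_, _, _, _, _, h⟩
    · obtain ⟨s, s2, h⟩ := C.head_of a b c hnd ha hb hc hs (hx.trans e1) (hy.trans e2) (hz.trans e3)
      exact ⟨_, _, _, _, _, h⟩

theorem Head.swap {p q r s s2 : I} (b : C.Head p q r s s2) : C.Head p q r s2 s := by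
  refine { b with
    nodup := (((((List.Perm.swap s2 s []).cons r).cons q).cons p).cons C.one).nodup_iff.1 b.nodup
    supp1 := fun x hx => b.supp1 x ?_
    us := b.us2
    us2 := b.us }
  simp only [List.mem_cons, List.not_mem_nil, or_false] at hx ⊢
  tauto

theorem Head.y_zero {p q r s s2 : I} (b : C.Head p q r s s2) (yr : C.y r = 0) :
    C.y p = 0 ∧ C.y q = 0 := by
  have hnd := b.nodup
  simp only [List.nodup_cons, List.mem_cons, List.not_mem_nil, or_false, not_or, List.nodup_nil,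
    and_true] at hnd
  have v1 := C.val_mk (C.unit_zero (i := 0) (by decide) b.up) rfl rfl rfl
  have v2 := C.val_mk (C.unit_zero (i := 0) (by decide) b.uq) rfl rfl rfl
  have v3 := C.val_mk (C.unit_zero (i := 0) (by decide) b.ur) rfl
    (show (C.co 0 r : ℝ) * C.y r = 0 by rw [yr, mul_zero]) rfl
  have hp := v1.deg_ne b.up
  have hq := v2.deg_ne b.uq
  have hr := v3.deg_ne b.ur
  obtain ⟨a1, a2, -, a4, -, -⟩ := C.eq3 (by simp [hnd]) b.supp0 v1 v2 v3
  generalize hY : (C.co 0 p : ℝ) * C.y p = Y at *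
  generalize hY' : (C.co 0 q : ℝ) * C.y q = Y' at *
  obtain rfl : Y' = -Y := by linarith
  simp only [neg_sq, ne_eq, two_ne_zero, not_false_eq_true, zero_pow, zero_div, add_zero, yyT,
    Fin.isValue, Matrix.cons_val_zero] at a4
  generalize hA : (C.co 0 p : ℝ) * (C.deg p : ℝ) = A at *
  generalize hB : (C.co 0 q : ℝ) * (C.deg q : ℝ) = B at *
  have hY0 : Y = 0 := by
    have h1 : Y ^ 2 * (A + B) = (Y ^ 2 / A + Y ^ 2 / B) * (A * B) := by field_simp; ring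
    rw [a4, zero_mul] at h1
    rcases mul_eq_zero.1 h1 with h0 | h0
    · exact pow_eq_zero_iff (n := 2) two_ne_zero |>.1 h0
    · exact (hr (by linarith)).elim
  subst hY0
  exact ⟨(mul_eq_zero.1 hY).resolve_left (Int.cast_ne_zero.2 b.up),
    (mul_eq_zero.1 (hY'.trans neg_zero)).resolve_left (Int.cast_ne_zero.2 b.uq)⟩

theorem Head.no_cross {p q r s s2 : I} (b : C.Head p q r s s2) (yr : C.y r = 0) {i : I}
    (hi : i = p ∨ i = q) (hne : i ≠ s) (hi4 : C.co 4 i ≠ 0) (hs4 : C.co 4 s ≠ 0) : False := by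
  have hnd := b.nodup
  simp only [List.nodup_cons, List.mem_cons, List.not_mem_nil, or_false, not_or, List.nodup_nil,
    and_true] at hnd
  have yi : C.y i = 0 := by
    rcases hi with rfl | rfl
    · exact (Head.y_zero C b yr).1
    · exact (Head.y_zero C b yr).2
  have hl : [i, s].Nodup := by simp [hne]
  have hs := list_supp (C.co 4) hl (by
    rw [C.norm]
    simp [C.sq_unit (i := 4) (by decide) hi4, C.sq_unit (i := 4) (by decide) hs4]
    decide)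
  have v1 := C.val_mk (C.unit_zero (i := 4) (by decide) hi4) rfl
    (show (C.co 4 i : ℝ) * C.y i = 0 by rw [yi, mul_zero]) rfl
  have v2 := C.val_mk (C.unit_zero (i := 4) (by decide) hs4) rfl rfl rfl
  obtain ⟨-, c2, -⟩ := C.eq2 hl hs v1 v2
  have ys : C.y s = 0 :=
    (mul_eq_zero.1 (show (C.co 4 s : ℝ) * C.y s = 0 by linarith)).resolve_left
      (Int.cast_ne_zero.2 hs4)
  have hr1 : C.co 1 r ≠ 0 := by rw [b.r1]; exact neg_ne_zero.2 b.ur
  have w1 := C.val_mk (C.unit_zero (i := 1) (by decide) hr1) rfl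
    (show (C.co 1 r : ℝ) * C.y r = 0 by rw [yr, mul_zero]) rfl
  have w2 := C.val_mk (C.unit_zero (i := 1) (by decide) b.us) rfl
    (show (C.co 1 s : ℝ) * C.y s = 0 by rw [ys, mul_zero]) rfl
  have w3 := C.val_mk (C.unit_zero (i := 1) (by decide) b.us2) rfl rfl rfl
  obtain ⟨-, d2, -, d4, -, -⟩ := C.eq3 (by simp [hnd]) b.supp1 w1 w2 w3
  rw [show (C.co 1 s2 : ℝ) * C.y s2 = 0 by linarith] at d4
  norm_num [yyT] at d4

/-- The constituents of the fifth vector. -/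
theorem Head.eta {p q r s s2 : I} (b : C.Head p q r s s2) (yr : C.y r = 0) :
    ∃ r', [C.one, p, q, r, r', s, s2].Nodup ∧ C.co 4 r' ≠ 0 ∧
      (∀ x, x ∉ [r, r'] → C.co 4 x = 0) ∧ C.co 4 r = -C.co 0 r := by
  have hnd := b.nodup
  simp only [List.nodup_cons, List.mem_cons, List.not_mem_nil, or_false, not_or, List.nodup_nil,
    and_true] at hnd
  obtain ⟨⟨n1, n2, n3, n4, n5⟩, ⟨n6, n7, n8, n9⟩, ⟨n10, n11, n12⟩, ⟨n13, n14⟩, n15, -⟩ := hnd
  have hA := C.inner_list 0 4 (l := [p, q, r]) (by simp [n6, n7, n10]) b.supp0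
  have hD := C.inner_list 1 4 (l := [r, s, s2]) (by simp [n13, n14, n15]) b.supp1
  simp only [List.map_cons, List.map_nil, List.sum_cons, List.sum_nil, add_zero, b.r1,
    neg_mul] at hA hD
  rw [show gramT 0 4 = -1 by decide] at hA
  rw [show gramT 1 4 = 1 by decide] at hD
  obtain ⟨p1, p2, p3⟩ := prod_unit (C.unit_zero (i := 0) (by decide) b.up) (C.bound 4 (Ne.symm n1))
  obtain ⟨q1, q2, q3⟩ := prod_unit (C.unit_zero (i := 0) (by decide) b.uq) (C.bound 4 (Ne.symm n2))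
  obtain ⟨r1, r2, r3⟩ := prod_unit (C.unit_zero (i := 0) (by decide) b.ur) (C.bound 4 (Ne.symm n3))
  obtain ⟨s1, t2, s3⟩ := prod_unit (C.unit_zero (i := 1) (by decide) b.us) (C.bound 4 (Ne.symm n4))
  obtain ⟨t1, u2, t3⟩ := prod_unit (C.unit_zero (i := 1) (by decide) b.us2)
    (C.bound 4 (Ne.symm n5))
  have hle := list_sum_le (C.co 4) (l := [p, q, r, s, s2])
    (by simp [n6, n7, n8, n9, n10, n11, n12, n13, n14, n15])
  rw [C.norm, show gramT 4 4 = 2 by decide] at hle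
  simp only [List.map_cons, List.map_nil, List.sum_cons, List.sum_nil, p3, q3, r3, s3, t3] at hle
  have hcases : (C.co 0 r * C.co 4 r = -1 ∧ C.co 0 p * C.co 4 p = 0 ∧ C.co 0 q * C.co 4 q = 0 ∧
      C.co 1 s * C.co 4 s = 0 ∧ C.co 1 s2 * C.co 4 s2 = 0) ∨
      ((C.co 0 p * C.co 4 p ≠ 0 ∨ C.co 0 q * C.co 4 q ≠ 0) ∧
        (C.co 1 s * C.co 4 s ≠ 0 ∨ C.co 1 s2 * C.co 4 s2 ≠ 0)) := by
    omega
  rcases hcases with ⟨er, ep, eq, es, et⟩ | ⟨hi, hj⟩
  · have p4 : C.co 4 p = 0 := (mul_eq_zero.1 ep).resolve_left b.up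
    have q4 : C.co 4 q = 0 := (mul_eq_zero.1 eq).resolve_left b.uq
    have s4 : C.co 4 s = 0 := (mul_eq_zero.1 es).resolve_left b.us
    have t4 : C.co 4 s2 = 0 := (mul_eq_zero.1 et).resolve_left b.us2
    have r4 : C.co 4 r = -C.co 0 r := by
      rw [eq_mul_of_prod (C.unit_zero (by decide) b.ur) er]; ring
    have hr4 : C.co 4 r ≠ 0 := by rw [r4]; exact neg_ne_zero.2 b.ur
    have sr := C.sq_unit (i := 4) (by decide) hr4
    obtain ⟨r', hr', h4⟩ := list_extra (C.co 4) (List.nodup_singleton r)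
      (by rw [C.norm, show gramT 4 4 = 2 by decide]; simp [sr])
    have m0 : r ≠ r' := fun e => hr' (by simp [e])
    have m1 : C.one ≠ r' := (C.ne_one_of_ne (i := 4) (by decide) h4).symm
    have m2 : p ≠ r' := fun e => h4 (e ▸ p4)
    have m3 : q ≠ r' := fun e => h4 (e ▸ q4)
    have m4 : r' ≠ s := fun e => h4 (e ▸ s4)
    have m5 : r' ≠ s2 := fun e => h4 (e ▸ t4)
    refine ⟨r', by simp [n1, n2, n3, n4, n5, n6, n7, n8, n9, n10, n11, n12, n13, n14, n15, m0, m1,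
      m2, m3, m4, m5], h4, list_supp _ (by simp [m0]) ?_, r4⟩
    rw [C.norm]
    simp [sr, C.sq_unit (i := 4) (by decide) h4]
    decide
  · exfalso
    rcases hi with hi | hi <;> rcases hj with hj | hj
    · exact Head.no_cross C b yr (Or.inl rfl) n8 (right_ne_zero_of_mul hi) (right_ne_zero_of_mul hj)
    · exact Head.no_cross C (Head.swap C b) yr (Or.inl rfl) n9 (right_ne_zero_of_mul hi)
        (right_ne_zero_of_mul hj)
    · exact Head.no_cross C b yr (Or.inr rfl) n11 (right_ne_zero_of_mul hi) (right_ne_zero_of_mul hj)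
    · exact Head.no_cross C (Head.swap C b) yr (Or.inr rfl) n12 (right_ne_zero_of_mul hi)
        (right_ne_zero_of_mul hj)

/-- The constituents of the four small vectors, after naming them suitably. -/
theorem Head.base {p q r s s2 : I} (b : C.Head p q r s s2) (yr : C.y r = 0) (zr : C.z r = 0) :
    ∃ r' t t2 t3, C.Base p q r r' t t2 t3 := by
  obtain ⟨r', hnd, hr', supp4, r4⟩ := Head.eta C b yr
  simp only [List.nodup_cons, List.mem_cons, List.not_mem_nil, or_false, not_or, List.nodup_nil,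
    and_true] at hnd
  obtain ⟨⟨n1, n2, n3, n4, n5, n6⟩, ⟨n7, n8, n9, n10, n11⟩, ⟨n12, n13, n14, n15⟩,
    ⟨n16, n17, n18⟩, ⟨n19, n20⟩, n21, -⟩ := hnd
  have hA := C.inner_list 0 5 (l := [p, q, r]) (by simp [n7, n8, n12]) b.supp0
  have hD := C.inner_list 1 5 (l := [r, s, s2]) (by simp [n17, n18, n21]) b.supp1
  have hE := C.inner_list 4 5 (l := [r, r']) (by simp [n16]) supp4
  simp only [List.map_cons, List.map_nil, List.sum_cons, List.sum_nil, add_zero, b.r1, r4,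
    neg_mul] at hA hD hE
  rw [show gramT 0 5 = 0 by decide] at hA
  rw [show gramT 1 5 = -1 by decide] at hD
  rw [show gramT 4 5 = 0 by decide] at hE
  obtain ⟨p1, p2, p3⟩ := prod_unit (C.unit_zero (i := 0) (by decide) b.up) (C.bound 5 (Ne.symm n1))
  obtain ⟨q1, q2, q3⟩ := prod_unit (C.unit_zero (i := 0) (by decide) b.uq) (C.bound 5 (Ne.symm n2))
  obtain ⟨r1, r2, r3⟩ := prod_unit (C.unit_zero (i := 0) (by decide) b.ur) (C.bound 5 (Ne.symm n3))
  obtain ⟨x1, x2, x3⟩ := prod_unit (C.unit_zero (i := 4) (by decide) hr') (C.bound 5 (Ne.symm n4))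
  obtain ⟨y1, y2, y3⟩ := prod_unit (C.unit_zero (i := 1) (by decide) b.us) (C.bound 5 (Ne.symm n5))
  obtain ⟨z1, z2, z3⟩ := prod_unit (C.unit_zero (i := 1) (by decide) b.us2)
    (C.bound 5 (Ne.symm n6))
  have hle := list_sum_le (C.co 5) (l := [p, q, r, r', s, s2])
    (by simp [n7, n8, n9, n10, n11, n12, n13, n14, n15, n16, n17, n18, n19, n20, n21])
  rw [C.norm, show gramT 5 5 = 2 by decide] at hle
  simp only [List.map_cons, List.map_nil, List.sum_cons, List.sum_nil, p3, q3, r3, x3, y3, z3]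
    at hle
  have hcases : C.co 0 p * C.co 5 p = 0 ∧ C.co 0 q * C.co 5 q = 0 ∧ C.co 0 r * C.co 5 r = 0 ∧
      C.co 4 r' * C.co 5 r' = 0 ∧
      ((C.co 1 s * C.co 5 s = -1 ∧ C.co 1 s2 * C.co 5 s2 = 0) ∨
        (C.co 1 s * C.co 5 s = 0 ∧ C.co 1 s2 * C.co 5 s2 = -1)) := by
    omega
  obtain ⟨ep, eq, er, ex, hst⟩ := hcases
  have p5 : C.co 5 p = 0 := (mul_eq_zero.1 ep).resolve_left b.up
  have q5 : C.co 5 q = 0 := (mul_eq_zero.1 eq).resolve_left b.uq
  have r5 : C.co 5 r = 0 := (mul_eq_zero.1 er).resolve_left b.ur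
  have x5 : C.co 5 r' = 0 := (mul_eq_zero.1 ex).resolve_left hr'
  have build : ∀ t t2, C.Head p q r t t2 → r' ≠ t → r' ≠ t2 → C.co 5 t = 0 →
      C.co 1 t2 * C.co 5 t2 = -1 → ∃ t3, C.Base p q r r' t t2 t3 := by
    intro t t2 bt mt mt2 t5 et
    have hnd := bt.nodup
    simp only [List.nodup_cons, List.mem_cons, List.not_mem_nil, or_false, not_or, List.nodup_nil,
      and_true] at hnd
    have e5 : C.co 5 t2 = -C.co 1 t2 := by
      rw [eq_mul_of_prod (C.unit_zero (by decide) bt.us2) et]; ring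
    have h25 : C.co 5 t2 ≠ 0 := by rw [e5]; exact neg_ne_zero.2 bt.us2
    have s25 := C.sq_unit (i := 5) (by decide) h25
    obtain ⟨t3, ht3, h35⟩ := list_extra (C.co 5) (List.nodup_singleton t2)
      (by rw [C.norm, show gramT 5 5 = 2 by decide]; simp [s25])
    have k0 : t2 ≠ t3 := fun e => ht3 (by simp [e])
    have k1 : C.one ≠ t3 := (C.ne_one_of_ne (i := 5) (by decide) h35).symm
    have k2 : p ≠ t3 := fun e => h35 (e ▸ p5)
    have k3 : q ≠ t3 := fun e => h35 (e ▸ q5)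
    have k4 : r ≠ t3 := fun e => h35 (e ▸ r5)
    have k5 : r' ≠ t3 := fun e => h35 (e ▸ x5)
    have k6 : t ≠ t3 := fun e => h35 (e ▸ t5)
    refine ⟨t3, ⟨?_, bt.supp0, bt.supp1, supp4, list_supp _ (by simp [k0]) ?_, bt.up, bt.uq, bt.ur,
      hr', bt.us, bt.us2, h35, bt.r1, r4, e5, yr, zr⟩⟩
    · simp [hnd, n4, n9, n13, n16, mt, mt2, k0, k1, k2, k3, k4, k5, k6]
    · rw [C.norm]
      simp [s25, C.sq_unit (i := 5) (by decide) h35]
      decide
  rcases hst with ⟨es, et⟩ | ⟨es, et⟩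
  · obtain ⟨t3, h⟩ := build s2 s (Head.swap C b) n20 n19
      ((mul_eq_zero.1 et).resolve_left b.us2) es
    exact ⟨_, _, _, _, h⟩
  · obtain ⟨t3, h⟩ := build s s2 b n19 n20 ((mul_eq_zero.1 es).resolve_left b.us) et
    exact ⟨_, _, _, _, h⟩

end Config

end Cfsg.Agent.RecogNine
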