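import Cfsg.Agent.RecogNine.Gens

/-!
# Classes of the table group

Facts about the fourteen classes, checked on the tables.
-/

set_option autoImplicit false
set_option maxRecDepth 20000

namespace Cfsg.Agent.RecogNine

/-- The label of the class of an element. -/
def cl (a : W) : Fin 14 := Fin.ofNat 14 (entry classT 4 a.c)

/-- The representative of a class. -/
def rep (c : Fin 14) : W := ofN (entry repT 10 c)

/-- An element conjugating the representative to the element. -/
def wit (a : W) : W := ofN (entry witT 10 a.c)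

/-- The classes of elements with a power in the translation group. -/
def inS (c : Fin 14) : Bool := decide (c ∈ [1, 3, 5, 7, 8, 9, 10, 12, 13])

/-- A power lying in the translation group. -/
def powS : Fin 14 → ℕ := ![1, 1, 1, 1, 1, 2, 1, 2, 1, 4, 4, 1, 3, 3]

theorem cl_rep : ∀ c, cl (rep c) = c := by decide +kernel
theorem wit_spec : ∀ a, a = wit a * rep (cl a) * (wit a)⁻¹ := by decide +kernel
theorem cl_conj_gen : ∀ a k, cl (genW k * a * (genW k)⁻¹) = cl a := by decide +kernel
theorem cl_inv : ∀ a : W, cl a⁻¹ = cl a := by decide +kernel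
theorem cl_eq_zero : ∀ a : W, cl a = 0 ↔ a = 1 := by decide +kernel
theorem cl_mem_J : ∀ a : W, cl a ∈ [0, 1, 3, 8] ↔ a.s = 0 := by decide +kernel
theorem cl_powS : ∀ a : W, inS (cl a) = true → cl (a ^ powS (cl a)) ∈ [1, 3, 8] := by
  decide +kernel
theorem involution_iff : ∀ a : W, (a ≠ 1 ∧ a * a = 1) ↔ cl a ∈ [2, 6] := by decide +kernel
theorem count_class : ∀ c : Fin 14,
    (Finset.univ.filter fun a : W => cl a = c).card = sizeT.getD c 0 := by decide +kernel

theorem cl_conj (x a : W) : cl (x * a * x⁻¹) = cl a := by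
  suffices h : ∀ n, ∀ x : W, entry depthT 4 x.c ≤ n → ∀ a, cl (x * a * x⁻¹) = cl a from
    h _ x le_rfl a
  intro n
  induction n with
  | zero =>
    intro x hx a
    rcases parent_spec x with rfl | ⟨_, h⟩
    · simp
    · omega
  | succ n ih =>
    intro x hx a
    rcases parent_spec x with rfl | ⟨he, h⟩
    · simp
    · rw [he]
      rw [mul_inv_rev]
      generalize hy : ofN (entry parentT 10 x.c) = y at *
      generalize Fin.ofNat 4 (entry lastT 2 x.c) = k at *
      rw [show y * genW k * a * ((genW k)⁻¹ * y⁻¹) = y * (genW k * a * (genW k)⁻¹) * y⁻¹ by group]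
      rw [ih y (by omega), cl_conj_gen]

theorem isConj_iff_cl {a b : W} : IsConj a b ↔ cl a = cl b := by
  refine ⟨fun h => ?_, fun h => ?_⟩
  · obtain ⟨x, rfl⟩ := isConj_iff.1 h
    exact (cl_conj x a).symm
  · have h1 : IsConj (rep (cl a)) a := isConj_iff.2 ⟨_, (wit_spec a).symm⟩
    have h2 : IsConj (rep (cl b)) b := isConj_iff.2 ⟨_, (wit_spec b).symm⟩
    rw [h] at h1
    exact h1.symm.trans h2

/-- The fixed involutions. -/
def tA : W := rep 2
def tB : W := rep 6

/-- The number of elements `u` of class `X` with `u * x` of class `Y`. -/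
def pairCount (X Y : Fin 14) (x : W) : ℕ :=
  (Finset.univ.filter fun u : W => cl u = X ∧ cl (u * x) = Y).card

theorem pairCount_rep :
    (∀ c, pairCount 2 2 (rep c) = [27, 18, 6, 9, 0, 6, 0, 0, 0, 0, 0, 0, 0, 0].getD c.val 0) ∧
    (∀ c, pairCount 2 6 (rep c) = [0, 0, 0, 0, 6, 0, 3, 3, 0, 6, 6, 0, 0, 0].getD c.val 0) ∧
    (∀ c, pairCount 6 6 (rep c) = [54, 18, 6, 9, 0, 6, 0, 0, 27, 0, 0, 9, 9, 9].getD c.val 0) := by
  decide +kernel

theorem cent_tA : ∃ a : W, cl a = 1 ∧ a * tA = tA * a ∧
    ∀ x : W, x * tA = tA * x → x * a = a * x → x ^ 9 = 1 → x = 1 ∨ x = a ∨ x = a⁻¹ := by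
  decide +kernel

theorem cent_tB : ∃ b : W, cl b = 3 ∧ b * tB = tB * b := by decide +kernel

/-- The four elements of the complement lying over the normal four group. -/
def inV (s : Fin 24) : Bool := decide (s ∈ [0, 1, 4, 5])

theorem commutator_V : ∀ s : Fin 24, s ≠ 0 → ∀ v : Fin 24, inV v = true → v = 0 ∨
    ∃ t r : Fin 24, (ofN r * (ofN s * ofN t * (ofN s)⁻¹ * (ofN t)⁻¹) * (ofN r)⁻¹).s = v := by
  decide +kernel

end Cfsg.Agent.RecogNine
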