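import Cfsg.Agent.RecogNine.Facts
import Cfsg.Agent.Lib.Characters.Induction
import Cfsg.Agent.Lib.CharTheory.IndBasic

/-!
# The combinations of induced linear characters

Ten integral combinations of characters induced from linear characters, with their values.
-/

set_option autoImplicit false
set_option maxRecDepth 20000
set_option linter.style.haveILetI false

namespace Cfsg.Agent.RecogNine

open Cfsg.Agent.Characters

/-- `√3` as a complex number. -/
noncomputable def s3 : ℂ := ((Real.sqrt 3 : ℝ) : ℂ)

theorem s3_sq : s3 ^ 2 = 3 := by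
  rw [s3, ← Complex.ofReal_pow, Real.sq_sqrt (by norm_num)]
  norm_num

/-- A primitive twelfth root of unity. -/
noncomputable def zet : ℂ := (s3 + Complex.I) / 2

theorem zet_four : zet ^ 4 = zet ^ 2 - 1 := by
  have h1 := Complex.I_sq
  have h2 := s3_sq
  have hsq : zet ^ 2 = (1 + s3 * Complex.I) / 2 := by
    rw [zet]; linear_combination (1 / 4 : ℂ) * h1 + (1 / 4 : ℂ) * h2
  rw [show zet ^ 4 = (zet ^ 2) ^ 2 by ring, hsq]
  linear_combination (s3 ^ 2 / 4) * h1 + (-1 / 4 : ℂ) * h2

theorem two_zet_sub : 2 * zet - zet ^ 3 = s3 := by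
  have h1 := Complex.I_sq
  have h2 := s3_sq
  rw [zet]
  linear_combination (-(3 * s3 + Complex.I) / 8) * h1 + (-(s3 + 3 * Complex.I) / 8) * h2

theorem zet_twelve : zet ^ 12 = 1 := by
  have h6 : zet ^ 6 = -1 := by linear_combination (zet ^ 2 + 1) * zet_four
  rw [show zet ^ 12 = (zet ^ 6) ^ 2 by ring, h6]; norm_num

theorem zet_ne_zero : zet ≠ 0 := fun h => by simpa [h] using zet_twelve

def thMask (j : Fin 14) : ℕ := (thetaT.getD j (0, 0, 0)).1
def thVec (j : Fin 14) : ℕ := (thetaT.getD j (0, 0, 0)).2.1
def thExp (j : Fin 14) : ℕ := (thetaT.getD j (0, 0, 0)).2.2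

def dot3 (u v : ℕ) : ℕ := (u / 9 * (v / 9) + u / 3 % 3 * (v / 3 % 3) + u % 3 * (v % 3))
def inT (j : Fin 14) (s : Fin 24) : Bool := decide (thMask j / 2 ^ (s : ℕ) % 2 = 1)
def lamExp (j : Fin 14) (u : Fin 27) : ℕ := 4 * dot3 (thVec j) u % 12
def muExp (j : Fin 14) (s : Fin 24) : ℕ := entry (thExp j) 4 s
/-- The exponent of the linear character at an element. -/
def expo (j : Fin 14) (a : W) : ℕ := (lamExp j a.v + muExp j a.s) % 12

theorem inT_mul : ∀ j s t, inT j s = true → inT j t = true → inT j (smulF s t) = true ∧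
    muExp j (smulF s t) % 12 = (muExp j s + muExp j t) % 12 := by decide +kernel
theorem inT_inv : ∀ j, ∀ a : W, inT j a.s = true → inT j a⁻¹.s = true := by decide +kernel
theorem inT_one : ∀ j, inT j (1 : W).s = true ∧ expo j 1 = 0 := by decide +kernel
theorem lam_act : ∀ j s u, inT j s = true → lamExp j (actF s u) = lamExp j u := by decide +kernel
theorem lam_add : ∀ j u w, lamExp j (vaddF u w) = (lamExp j u + lamExp j w) % 12 := by
  decide +kernel

/-- The subgroup carrying the linear character. -/
def Kth (j : Fin 14) : Subgroup W where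
  carrier := {a | inT j a.s = true}
  mul_mem' {a b} ha hb := by
    show inT j (a * b).s = true
    rw [mul_s]; exact (inT_mul j _ _ ha hb).1
  one_mem' := (inT_one j).1
  inv_mem' {a} ha := inT_inv j a ha

theorem expo_mul (j : Fin 14) (a b : W) (ha : inT j a.s = true) (hb : inT j b.s = true) :
    expo j (a * b) = (expo j a + expo j b) % 12 := by
  have h1 := (inT_mul j _ _ ha hb).2
  rw [expo, mul_v, mul_s, lam_add, lam_act j _ _ ha, expo, expo]
  omega

theorem zet_pow_mod (n : ℕ) : zet ^ (n % 12) = zet ^ n := by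
  conv_rhs => rw [← Nat.mod_add_div n 12, pow_add, pow_mul, zet_twelve, one_pow, mul_one]

/-- The linear character. -/
noncomputable def thHom (j : Fin 14) : Kth j →* ℂˣ where
  toFun a := Units.mk0 (zet ^ expo j a) (pow_ne_zero _ zet_ne_zero)
  map_one' := by
    apply Units.ext
    simp [(inT_one j).2]
  map_mul' a b := by
    apply Units.ext
    simp only [Units.val_mk0, Units.val_mul, Subgroup.coe_mul]
    rw [expo_mul j _ _ a.2 b.2, zet_pow_mod, pow_add]

noncomputable def thFun (j : Fin 14) : Kth j → ℂ := fun a => (thHom j a : ℂ)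

def comboC (i : Fin 10) (j : Fin 14) : ℤ := (comboT.getD i []).getD j 0
def valPQ (i : Fin 10) (c : Fin 14) : ℤ × ℤ := (valueT.getD i []).getD c (0, 0)
def idxT (j : Fin 14) : ℕ := [1, 3, 3, 3, 6, 6, 6, 12, 8, 8, 24, 24, 24, 24].getD j 0

theorem card_Kth : ∀ j, idxT j * (Finset.univ.filter fun a : W => inT j a.s = true).card = 648 := by
  decide +kernel

/-- The value of a combination. -/
noncomputable def valC (i : Fin 10) (c : Fin 14) : ℂ :=
  ((valPQ i c).1 : ℂ) + ((valPQ i c).2 : ℂ) * s3

/-- The combination as a function. -/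
noncomputable def alph (i : Fin 10) : W → ℂ := fun a => valC i (cl a)

/-- Coordinates of a power of the root of unity in the basis of powers below four. -/
def redz : ℕ → Fin 4 → ℤ
  | 0 => ![1, 0, 0, 0] | 1 => ![0, 1, 0, 0] | 2 => ![0, 0, 1, 0] | 3 => ![0, 0, 0, 1]
  | 4 => ![-1, 0, 1, 0] | 5 => ![0, -1, 0, 1] | 6 => ![-1, 0, 0, 0] | 7 => ![0, -1, 0, 0]
  | 8 => ![0, 0, -1, 0] | 9 => ![0, 0, 0, -1] | 10 => ![1, 0, -1, 0] | 11 => ![0, 1, 0, -1]
  | _ => ![0, 0, 0, 0]

theorem zet_red {k : ℕ} (hk : k < 12) :
    zet ^ k = ∑ m : Fin 4, (redz k m : ℂ) * zet ^ (m : ℕ) := by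
  have h4 := zet_four
  simp only [Fin.sum_univ_four]
  interval_cases k <;> simp [redz]
  · linear_combination h4
  · linear_combination zet * h4
  · linear_combination (zet ^ 2 + 1) * h4
  · linear_combination (zet ^ 3 + zet) * h4
  · linear_combination (zet ^ 4 + zet ^ 2) * h4
  · linear_combination (zet ^ 5 + zet ^ 3) * h4
  · linear_combination (zet ^ 6 + zet ^ 4 - 1) * h4
  · linear_combination (zet ^ 7 + zet ^ 5 - zet) * h4

/-- The order of the centralizer of a representative. -/
def centOrd (c : Fin 14) : ℕ := 648 / sizeT.getD c 1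

theorem centOrd_mul : ∀ c : Fin 14, centOrd c * sizeT.getD c 0 = 648 := by decide +kernel

/-- Summing over the conjugates is summing over the class. -/
theorem sum_conj_eq {M : Type*} [AddCommMonoid M] (c : Fin 14) (f : W → M) :
    ∑ x : W, f (x⁻¹ * rep c * x) = centOrd c • ∑ a : W, if cl a = c then f a else 0 := by
  classical
  have hfib : ∀ a : W, cl a = c →
      (Finset.univ.filter fun x : W => x⁻¹ * rep c * x = a).card = centOrd c := by
    intro a ha
    have hbij : ∀ b : W, cl b = c → (Finset.univ.filter fun x : W => x⁻¹ * rep c * x = b).card =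
        (Finset.univ.filter fun x : W => x⁻¹ * rep c * x = rep c).card := by
      intro b hb
      obtain ⟨w, hw⟩ : ∃ w, b = w * rep c * w⁻¹ := ⟨wit b, hb ▸ wit_spec b⟩
      subst hw
      refine Finset.card_bij (fun x _ => x * w) ?_ (fun x _ y _ h => mul_right_cancel h) ?_
      · intro x hx
        simp only [Finset.mem_filter, Finset.mem_univ, true_and] at hx ⊢
        rw [show (x * w)⁻¹ * rep c * (x * w) = w⁻¹ * (x⁻¹ * rep c * x) * w by group, hx]
        group
      · intro y hy
        simp only [Finset.mem_filter, Finset.mem_univ, true_and] at hy ⊢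
        refine ⟨y * w⁻¹, ?_, by group⟩
        rw [show (y * w⁻¹)⁻¹ * rep c * (y * w⁻¹) = w * (y⁻¹ * rep c * y) * w⁻¹ by group, hy]
    have htot : (Finset.univ : Finset W).card = ∑ b ∈ Finset.univ.filter (fun b : W => cl b = c),
        (Finset.univ.filter fun x : W => x⁻¹ * rep c * x = b).card := by
      refine Finset.card_eq_sum_card_fiberwise fun x _ => ?_
      simp only [Finset.coe_filter, Finset.mem_univ, true_and, Set.mem_setOf_eq]
      have := cl_conj x⁻¹ (rep c)
      rw [inv_inv] at this
      rw [this, cl_rep]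
    rw [Finset.sum_congr rfl (fun b hb => hbij b (Finset.mem_filter.1 hb).2), Finset.sum_const,
      smul_eq_mul, count_class] at htot
    have h648 : (Finset.univ : Finset W).card = 648 := by decide +kernel
    have h3 := centOrd_mul c
    rw [hbij a ha]
    have h4 : 0 < sizeT.getD c 0 := Nat.pos_of_ne_zero fun h => by rw [h, mul_zero] at h3; omega
    exact Nat.eq_of_mul_eq_mul_left h4 (by rw [← htot, h648, mul_comm, h3])
  rw [← Finset.sum_fiberwise Finset.univ (fun x : W => x⁻¹ * rep c * x), Finset.smul_sum]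
  refine Finset.sum_congr rfl fun a _ => ?_
  rw [Finset.sum_congr rfl (g := fun _ => f a) (fun x hx => by
    rw [(Finset.mem_filter.1 hx).2]), Finset.sum_const]
  by_cases ha : cl a = c
  · rw [if_pos ha, hfib a ha]
  · rw [if_neg ha, smul_zero, Finset.filter_eq_empty_iff.2, Finset.card_empty, zero_smul]
    intro x _ h
    apply ha
    have := cl_conj x⁻¹ (rep c)
    rw [inv_inv, h, cl_rep] at this
    exact this

/-- The elements of a class. -/
def members (c : Fin 14) : List W := (membersT.getD c []).map ofN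

theorem members_check : ∀ c : Fin 14, (membersT.getD c []).length = sizeT.getD c 0 ∧
    (membersT.getD c []).Pairwise (· < ·) ∧
    (membersT.getD c []).all (fun n => decide (n < 648) && decide (cl (ofN n) = c)) = true := by
  decide +kernel

theorem sum_class {M : Type*} [AddCommMonoid M] (c : Fin 14) (f : W → M) :
    (∑ a : W, if cl a = c then f a else 0) = ((members c).map f).sum := by
  classical
  obtain ⟨hlen, hpw, hall⟩ := members_check c
  simp only [List.all_eq_true, Bool.and_eq_true, decide_eq_true_eq] at hall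
  have hnd : (members c).Nodup := by
    refine List.Nodup.map_on (fun a ha b hb h => ?_) (hpw.imp fun h => ne_of_lt h)
    have := congrArg (fun x : W => (x.c : ℕ)) h
    simpa [ofN, Nat.mod_eq_of_lt (hall a ha).1, Nat.mod_eq_of_lt (hall b hb).1] using this
  rw [← List.sum_toFinset f hnd, ← Finset.sum_filter]
  refine Finset.sum_congr (Finset.eq_of_subset_of_card_le ?_ ?_).symm fun _ _ => rfl
  · intro a ha
    simp only [members, List.mem_toFinset, List.mem_map] at ha
    obtain ⟨n, hn, rfl⟩ := ha
    simpa using (hall n hn).2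
  · rw [List.toFinset_card_of_nodup hnd, count_class, members, List.length_map, hlen]

/-- A coordinate of the sum of the linear character over a class, times the centralizer order. -/
def acc (j : Fin 14) (c : Fin 14) (m : Fin 4) : ℤ :=
  (centOrd c : ℤ) * ((members c).map fun a => if inT j a.s then redz (expo j a) m else 0).sum

theorem acc_check : ∀ i c, ∀ m : Fin 4,
    ((List.finRange 14).map fun j =>
      if comboC i j = 0 then 0 else comboC i j * (idxT j : ℤ) * acc j c m).sum =
      648 * ![(valPQ i c).1, 2 * (valPQ i c).2, 0, -(valPQ i c).2] m := by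
  decide +kernel

theorem indFun_rep (j : Fin 14) (c : Fin 14) :
    648 * Cfsg.indFun (Kth j) (thFun j) (rep c) =
      ∑ m : Fin 4, ((idxT j : ℤ) * acc j c m : ℤ) * zet ^ (m : ℕ) := by
  classical
  have hcard : (Nat.card (Kth j) : ℕ) = (Finset.univ.filter fun a : W => inT j a.s = true).card := by
    rw [Nat.card_eq_fintype_card]
    exact Fintype.card_of_subtype _ fun a => by simp [Kth]
  have h648 : (idxT j : ℂ) * (Nat.card (Kth j) : ℂ) = 648 := by
    rw [hcard]; exact_mod_cast card_Kth j
  have hK : (Nat.card (Kth j) : ℂ) ≠ 0 := Nat.cast_ne_zero.2 Nat.card_pos.ne'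
  rw [Cfsg.indFun, ← h648]
  field_simp
  rw [sum_conj_eq c (fun y => Cfsg.extendByZero (Kth j) (thFun j) y), nsmul_eq_mul, Finset.mul_sum,
    Finset.mul_sum]
  calc ∑ a : W, (idxT j : ℂ) * ((centOrd c : ℂ) *
        if cl a = c then Cfsg.extendByZero (Kth j) (thFun j) a else 0)
      = ∑ a : W, ∑ m : Fin 4, (((idxT j : ℤ) * ((centOrd c : ℤ) * if cl a = c then
          (if inT j a.s then redz (expo j a) m else 0) else 0) : ℤ) : ℂ) * zet ^ (m : ℕ) := ?_
    _ = _ := by
      rw [Finset.sum_comm]
      refine Finset.sum_congr rfl fun m _ => ?_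
      rw [acc, ← sum_class, Finset.mul_sum, Finset.mul_sum, Int.cast_sum, Finset.sum_mul]
  refine Finset.sum_congr rfl fun a _ => ?_
  by_cases hc : cl a = c
  · by_cases h : inT j a.s = true
    · rw [if_pos hc, Cfsg.Agent.CharTheory.IndBasic.extendByZero_of_mem (Kth j) (thFun j) h]
      show (idxT j : ℂ) * ((centOrd c : ℂ) * zet ^ expo j a) = _
      rw [zet_red (k := expo j a) (Nat.mod_lt _ (by norm_num)), Finset.mul_sum, Finset.mul_sum]
      refine Finset.sum_congr rfl fun m _ => ?_
      rw [if_pos hc, if_pos h]; push_cast; ring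
    · rw [if_pos hc, Cfsg.Agent.CharTheory.IndBasic.extendByZero_of_notMem (Kth j) (thFun j) h]
      simp [h, hc]
  · simp [hc]

theorem alph_eq (i : Fin 10) :
    alph i = ∑ j : Fin 14, (comboC i j : ℂ) • Cfsg.indFun (Kth j) (thFun j) := by
  have hrep : ∀ c, alph i (rep c) =
      ∑ j : Fin 14, (comboC i j : ℂ) * Cfsg.indFun (Kth j) (thFun j) (rep c) := by
    intro c
    apply mul_left_cancel₀ (show (648 : ℂ) ≠ 0 by norm_num)
    rw [alph, cl_rep, Finset.mul_sum]
    calc (648 : ℂ) * valC i c
        = ∑ m : Fin 4, ((648 * ![(valPQ i c).1, 2 * (valPQ i c).2, 0, -(valPQ i c).2] m : ℤ) : ℂ)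
          * zet ^ (m : ℕ) := by
            simp only [Fin.sum_univ_four, valC, ← two_zet_sub]
            simp
            ring
      _ = ∑ m : Fin 4, ∑ j : Fin 14,
          ((comboC i j : ℤ) : ℂ) * (((idxT j : ℤ) * acc j c m : ℤ) : ℂ) * zet ^ (m : ℕ) := by
            refine Finset.sum_congr rfl fun m _ => ?_
            rw [← acc_check i c m, ← List.ofFn_eq_map, List.sum_ofFn, Int.cast_sum, Finset.sum_mul]
            refine Finset.sum_congr rfl fun j _ => ?_
            split_ifs with h
            · simp [h]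
            · push_cast; ring
      _ = _ := by
            rw [Finset.sum_comm]
            refine Finset.sum_congr rfl fun j _ => ?_
            rw [mul_left_comm, indFun_rep, Finset.mul_sum]
            exact Finset.sum_congr rfl fun m _ => by ring
  funext a
  simp only [Finset.sum_apply, Pi.smul_apply, smul_eq_mul]
  have h1 : alph i a = alph i (rep (cl a)) := by rw [alph, alph, cl_rep]
  rw [h1, hrep]
  refine Finset.sum_congr rfl fun j _ => ?_
  congr 1
  conv_rhs => rw [wit_spec a]
  rw [Cfsg.Agent.CharTheory.IndBasic.indFun_conj]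

theorem alph_isGen (i : Fin 10) : Cfsg.IsGeneralizedCharacter W (alph i) := by
  rw [alph_eq]
  refine isGen_sum _ _ fun j _ => ?_
  exact isGen_intSmul (isGen_of_isCharacter (isCharacter_indFun _ (isCharacter_linear (thHom j)))) _

theorem alph_six_isCharacter : ∀ i : Fin 10, 6 ≤ i.val → Cfsg.IsCharacter W (alph i) := by
  intro i hi
  have h1 : ∀ j, comboC i j = if j.val = i.val + 4 then 1 else 0 := by
    revert i; decide +kernel
  rw [alph_eq, Finset.sum_eq_single (⟨i.val + 4, by omega⟩ : Fin 14)]
  · rw [h1, if_pos rfl, Int.cast_one, one_smul]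
    exact isCharacter_indFun _ (isCharacter_linear (thHom _))
  · intro j _ hj
    rw [h1, if_neg (fun h => hj (Fin.ext h)), Int.cast_zero, zero_smul]
  · simp

end Cfsg.Agent.RecogNine
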