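import Cfsg.Agent.RecogNine.Characters
import Cfsg.Agent.Lib.Characters.Kernel
import Cfsg.Agent.Lib.Components.FourPrimes.Basic
import Mathlib.GroupTheory.Transfer

/-!
# The table group is the whole group

The constituent of degree three has a kernel meeting the table group in its translation part,
and this kernel equals the translation part.
-/

set_option autoImplicit false
set_option maxRecDepth 20000
set_option linter.style.haveILetI false

namespace Cfsg.Agent.RecogNine

open Cfsg.Agent.Characters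
open scoped ComplexConjugate

/-- The translation part. -/
def Jm : Subgroup W where
  carrier := {a | a.s = 0}
  mul_mem' {a b} ha hb := by
    show (a * b).s = 0
    rw [mul_s, ha, hb]; decide +kernel
  one_mem' := by show (1 : W).s = 0; decide +kernel
  inv_mem' {a} ha := by
    show a⁻¹.s = 0
    exact (cl_mem_J a⁻¹).1 (by rw [cl_inv]; exact (cl_mem_J a).2 ha)

theorem mem_Jm {a : W} : a ∈ Jm ↔ a.s = 0 := Iff.rfl

instance Jm_normal : Jm.Normal :=
  ⟨fun a ha x => (cl_mem_J _).1 (by rw [cl_conj]; exact (cl_mem_J a).2 ha)⟩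

theorem smul_inv_self : ∀ s : Fin 24,
    smulF s (ofN s)⁻¹.s = 0 ∧ smulF s 0 = s ∧ (ofN (s : ℕ)).s = s := by decide +kernel

theorem mul_ofN_inv (a : W) : a * (ofN (a.s : ℕ))⁻¹ ∈ Jm := by
  rw [mem_Jm, mul_s]; exact (smul_inv_self a.s).1

theorem eq_ofN_of_mem {a : W} (ha : a ∈ Jm) : a = ofN (24 * (a.v : ℕ)) := by
  have h0 : (a.c : ℕ) % 24 = 0 := congrArg (fun x : Fin 24 => (x : ℕ)) ha
  have h1 : 24 * (a.v : ℕ) = a.c := by
    show 24 * ((a.c : ℕ) / 24) = a.c
    omega
  rw [h1, ofN_c]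

theorem Jm_facts : ∀ u v : Fin 27, ofN (24 * (u : ℕ)) * ofN (24 * (v : ℕ)) =
    ofN (24 * (v : ℕ)) * ofN (24 * (u : ℕ)) ∧ ofN (24 * (u : ℕ)) ^ 3 = 1 := by decide +kernel

theorem Jm_comm {a b : W} (ha : a ∈ Jm) (hb : b ∈ Jm) : a * b = b * a := by
  rw [eq_ofN_of_mem ha, eq_ofN_of_mem hb]
  exact (Jm_facts _ _).1

theorem Jm_cube {a : W} (ha : a ∈ Jm) : a ^ 3 = 1 := by
  rw [eq_ofN_of_mem ha]
  exact (Jm_facts a.v a.v).2

theorem card_Jm : Nat.card Jm = 27 := by
  show Nat.card {a : W // a.s = 0} = 27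
  rw [Nat.card_eq_fintype_card, Fintype.card_subtype]
  decide +kernel

theorem cl_of_ne_one {a : W} (ha : a ∈ Jm) (h : a ≠ 1) : cl a ∈ [1, 3, 8] := by
  have h1 := (cl_mem_J a).2 ha
  simp only [List.mem_cons, List.not_mem_nil, or_false] at h1 ⊢
  exact h1.resolve_left fun h0 => h ((cl_eq_zero a).1 h0)

theorem Jm_rep : rep 1 ∈ Jm :=
  (cl_mem_J _).1 (by rw [cl_rep]; decide)

theorem reg_check : ∀ c : Fin 14,
    (valPQ 6 c).1 + 6 * (valPQ 7 c).1 + 12 * (valPQ 8 c).1 + 8 * (valPQ 9 c).1 =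
        (if c = 0 then 648 else 0) ∧
      (valPQ 6 c).2 + 6 * (valPQ 7 c).2 + 12 * (valPQ 8 c).2 + 8 * (valPQ 9 c).2 = 0 ∧
      valPQ 6 c = (if c ∈ [0, 1, 3, 8] then (24, 0) else (0, 0)) := by
  decide +kernel

theorem inV_smul : inV 0 = true := by decide +kernel

theorem vsum_check : ∀ s : Fin 24,
    (∑ y : W, if inV y.s then valP 0 (cl (y * ofN (s : ℕ))) else 0) = 0 ∧
    (∑ y : W, if inV y.s then valQ 0 (cl (y * ofN (s : ℕ))) else 0) = 0 := by
  decide +kernel

theorem sum_al_coset (x : W) : ∑ y : W, (if inV y.s then al 0 (y * x) else 0) = 0 := by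
  have hj := mul_ofN_inv x
  obtain ⟨j, hjdef⟩ : ∃ j, j = x * (ofN (x.s : ℕ))⁻¹ := ⟨_, rfl⟩
  rw [← hjdef] at hj
  have hx : x = j * ofN (x.s : ℕ) := by rw [hjdef]; group
  rw [Fintype.sum_equiv (Equiv.mulRight j) (fun y : W => if inV y.s then al 0 (y * x) else 0)
    (fun y : W => if inV y.s then al 0 (y * ofN (x.s : ℕ)) else 0) fun y => by
      show _ = if inV (y * j).s then al 0 (y * j * ofN (x.s : ℕ)) else 0
      rw [mul_s, show j.s = 0 from hj, (smul_inv_self y.s).2.1, mul_assoc, ← hx]]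
  obtain ⟨h1, h2⟩ := vsum_check x.s
  have h3 : ∀ y : W, (if inV y.s then al 0 (y * ofN (x.s : ℕ)) else 0) =
      ((if inV y.s then valP 0 (cl (y * ofN (x.s : ℕ))) else 0 : ℤ) : ℂ) +
      ((if inV y.s then valQ 0 (cl (y * ofN (x.s : ℕ))) else 0 : ℤ) : ℂ) * s3 := fun y => by
    split_ifs
    · exact al_apply _ _
    · simp
  rw [Finset.sum_congr rfl fun y _ => h3 y, Finset.sum_add_distrib, ← Finset.sum_mul,
    ← Int.cast_sum, ← Int.cast_sum, h1, h2]
  simp

variable {G : Type*} [Group G] [Finite G] (S : Setting G)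

omit [Finite G] in
/-- A character of degree three with a nontrivial multiplicity is constant on the translation
part. -/
theorem eq_three_on_Jm {ψ : W → ℂ} (hψ : Cfsg.IsCharacter W ψ) (h1 : ψ 1 = 3) {a : W}
    (ha : a ∈ Jm) : ψ a = 3 := by
  classical
  have hm : ∀ w : Fin 10, 6 ≤ w.val → ∃ m : ℕ, Cfsg.classInner (alph w) ψ = (m : ℂ) :=
    fun w hw => classInner_char_nat (alph_six_isCharacter w hw) hψ
  obtain ⟨m0, hm0⟩ := hm 6 (by decide)
  obtain ⟨m1, hm1⟩ := hm 7 (by decide)
  obtain ⟨m2, hm2⟩ := hm 8 (by decide)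
  obtain ⟨m3, hm3⟩ := hm 9 (by decide)
  have hreg : ∀ x : W, alph 6 x + 6 * alph 7 x + 12 * alph 8 x + 8 * alph 9 x =
      if x = 1 then 648 else 0 := by
    intro x
    obtain ⟨h2, h3, -⟩ := reg_check (cl x)
    have h2' := congrArg (fun n : ℤ => (n : ℂ)) h2
    have h3' := congrArg (fun n : ℤ => (n : ℂ)) h3
    push_cast at h2' h3'
    have h4 : (if x = 1 then (648 : ℂ) else 0) = if cl x = 0 then 648 else 0 :=
      if_congr (cl_eq_zero x).symm rfl rfl
    rw [h4, ← h2']
    simp only [alph, valC]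
    linear_combination s3 * h3'
  have hsum : (m0 : ℂ) + 6 * m1 + 12 * m2 + 8 * m3 = 3 := by
    rw [← hm0, ← hm1, ← hm2, ← hm3, classInner_W, classInner_W, classInner_W, classInner_W]
    have h : ∑ x : W, (alph 6 x + 6 * alph 7 x + 12 * alph 8 x + 8 * alph 9 x) * conj (ψ x) =
        648 * 3 := by
      simp only [hreg, ite_mul, zero_mul]
      rw [Finset.sum_ite_eq' Finset.univ (1 : W), if_pos (Finset.mem_univ _), h1]
      simp [map_ofNat]
    simp only [add_mul, Finset.sum_add_distrib, mul_assoc, ← Finset.mul_sum] at h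
    linear_combination (648 : ℂ)⁻¹ * h
  have hnat : m0 + 6 * m1 + 12 * m2 + 8 * m3 = 3 := by exact_mod_cast hsum
  have hm0' : m0 = 3 := by omega
  rw [hm0', classInner_W] at hm0
  have hJ : ∑ x : W, (if x ∈ Jm then (ψ x).re else 0) = 81 := by
    have h : ∑ x : W, alph 6 x * conj (ψ x) = ∑ x : W, if x ∈ Jm then 24 * conj (ψ x) else 0 := by
      refine Finset.sum_congr rfl fun x _ => ?_
      obtain ⟨-, -, h2⟩ := reg_check (cl x)
      by_cases hx : x ∈ Jm
      · rw [if_pos ((cl_mem_J x).2 hx)] at h2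
        simp [alph, valC, h2, hx]
      · rw [if_neg fun h' => hx ((cl_mem_J x).1 h')] at h2
        simp [alph, valC, h2, hx]
    rw [h] at hm0
    have h2 := congrArg Complex.re hm0
    simp only [Complex.mul_re, Complex.inv_re, Complex.inv_im, Complex.re_sum, Complex.im_sum,
      apply_ite Complex.re, Complex.re_ofNat, Complex.im_ofNat, Complex.conj_re, zero_mul,
      sub_zero, Complex.zero_re, neg_zero, zero_div, Complex.natCast_re, Complex.normSq_ofNat]
      at h2
    simp only [← mul_ite_zero, ← Finset.mul_sum] at h2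
    norm_num at h2
    linarith
  have hle : ∀ x : W, (if x ∈ Jm then (ψ x).re else 0) ≤ if x ∈ Jm then (3 : ℝ) else 0 := by
    intro x
    split_ifs
    · have := (Complex.re_le_norm (ψ x)).trans (char_norm_le hψ x)
      rw [h1] at this
      simpa using this
    · exact le_rfl
  have htot : ∑ x : W, (if x ∈ Jm then (3 : ℝ) else 0) = 81 := by
    rw [← Finset.sum_filter, Finset.sum_const, ← Fintype.card_subtype, ← Nat.card_eq_fintype_card]
    show (Nat.card Jm) • (3 : ℝ) = 81
    rw [card_Jm]; norm_num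
  have heq := (Finset.sum_eq_sum_iff_of_le fun x _ => hle x).1 (hJ.trans htot.symm) a
    (Finset.mem_univ _)
  rw [if_pos ha, if_pos ha] at heq
  have hn := char_norm_le hψ a
  rw [h1, show ‖(3 : ℂ)‖ = 3 by norm_num] at hn
  have hsq : (ψ a).re * (ψ a).re + (ψ a).im * (ψ a).im = ‖ψ a‖ ^ 2 := by
    rw [← Complex.normSq_apply, Complex.normSq_eq_norm_sq]
  have him : (ψ a).im = 0 := by nlinarith [norm_nonneg (ψ a)]
  exact Complex.ext (by simpa using heq) (by simpa using him)

/-- The table group is everything. -/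
theorem Setting.range_eq_top : S.ι.range = ⊤ := by
  classical
  haveI := Fintype.ofFinite G
  haveI := Fintype.ofFinite (Cfsg.IrrCharacter G)
  obtain ⟨χ, hdeg, hco⟩ := S.exists_degree_three
  have hchar := irr_isCharacter χ
  have hψ : Cfsg.IsCharacter W ((χ : G → ℂ) ∘ S.ι) := isCharacter_comp S.ι hchar
  have hψ1 : ((χ : G → ℂ) ∘ S.ι) 1 = 3 := by simp [hdeg]
  set N := charKernel (χ : G → ℂ) hchar with hN
  haveI hNn : N.Normal := charKernel_normal hchar
  have hJN : ∀ a : W, a ∈ Jm → S.ι a ∈ N := fun a ha => by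
    rw [hN, mem_charKernel, hdeg]
    exact eq_three_on_Jm hψ hψ1 ha
  -- the kernel meets the table group in the translation part
  have hmeet : ∀ w : W, S.ι w ∈ N → w ∈ Jm := by
    intro w hw
    by_contra hwJ
    apply hco
    have hn : ∀ x y : W, S.ι x ∈ N → S.ι (y * x * y⁻¹) ∈ N := fun x y hx => by
      rw [map_mul, map_mul, map_inv]; exact hNn.conj_mem _ hx _
    have hsame : ∀ x : W, S.ι x ∈ N → S.ι (ofN (x.s : ℕ)) ∈ N := fun x hx => by
      rw [show ofN (x.s : ℕ) = (x * (ofN (x.s : ℕ))⁻¹)⁻¹ * x by group, map_mul, map_inv]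
      exact mul_mem (inv_mem (hJN _ (mul_ofN_inv x))) hx
    have hV : ∀ y : W, inV y.s = true → S.ι y ∈ N := by
      intro y hy
      have h0 : S.ι (ofN (y.s : ℕ)) ∈ N := by
        rcases commutator_V w.s hwJ y.s hy with h | ⟨t, r, h⟩
        · rw [h]
          exact hJN _ (mem_Jm.2 (smul_inv_self 0).2.2)
        · rw [← h]
          refine hsame _ (hn _ _ ?_)
          rw [show ofN (w.s : ℕ) * ofN (t : ℕ) * (ofN (w.s : ℕ))⁻¹ * (ofN (t : ℕ))⁻¹ =
            ofN (w.s : ℕ) * (ofN (t : ℕ) * (ofN (w.s : ℕ))⁻¹ * (ofN (t : ℕ))⁻¹) by group, map_mul]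
          refine mul_mem (hsame w hw) ?_
          exact hn _ _ (by rw [map_inv]; exact inv_mem (hsame w hw))
      rw [show y = y * (ofN (y.s : ℕ))⁻¹ * ofN (y.s : ℕ) by group, map_mul]
      exact mul_mem (hJN _ (mul_ofN_inv y)) h0
    have hinv : ∀ x y : W, inV y.s = true →
        (χ : G → ℂ) (S.ι (y * x)) = (χ : G → ℂ) (S.ι x) := fun x y hy => by
      rw [map_mul]
      exact char_mul_of_eq_one hchar (hV y hy) _
    have hz : ∑ x : W, al 0 x * conj ((χ : G → ℂ) (S.ι x)) = 0 := by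
      have h2 : ∑ y : W, (if inV y.s then ∑ x : W, al 0 x * conj ((χ : G → ℂ) (S.ι x)) else 0) =
          0 := by
        calc _ = ∑ y : W, ∑ x : W,
              (if inV y.s then al 0 (y * x) else 0) * conj ((χ : G → ℂ) (S.ι x)) := by
              refine Finset.sum_congr rfl fun y _ => ?_
              split_ifs with hy
              · refine (Fintype.sum_equiv (Equiv.mulLeft y) _ _ fun x => ?_).symm
                show _ = al 0 (y * x) * conj ((χ : G → ℂ) (S.ι (y * x)))
                rw [hinv x y hy]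
              · simp
          _ = 0 := by
              rw [Finset.sum_comm]
              exact Finset.sum_eq_zero fun x _ => by rw [← Finset.sum_mul, sum_al_coset, zero_mul]
      rw [← Finset.sum_filter, Finset.sum_const, smul_eq_zero] at h2
      refine h2.resolve_left (Finset.card_ne_zero.2 ⟨1, ?_⟩)
      simp only [Finset.mem_filter, Finset.mem_univ, true_and]
      decide +kernel
    have := S.coef_spec 0 χ
    rw [hz, mul_zero] at this
    exact_mod_cast this
  -- the normalizer of the translation part lies in the table group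
  have hnorm : ∀ g : G, (∀ a : W, a ∈ Jm → g * S.ι a * g⁻¹ ∈ Jm.map S.ι) → g ∈ S.ι.range := by
    intro g hg
    obtain ⟨b, -, hb⟩ := hg _ Jm_rep
    exact S.fus (x := rep 1) (y := b) (by rw [cl_rep]; decide) hb.symm
  set J := (Jm.map S.ι).subgroupOf N with hJ
  haveI : Fact (Nat.Prime 3) := ⟨Nat.prime_three⟩
  have hJle : Jm.map S.ι ≤ N := by
    rintro _ ⟨a, ha, rfl⟩; exact hJN a ha
  have hJnorm : ∀ g : N, g ∈ Subgroup.normalizer (J : Set N) → g ∈ J := by
    intro g hg
    obtain ⟨w, hw⟩ := hnorm (g : G) fun a ha => by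
      have := (Subgroup.mem_normalizer_iff.1 hg ⟨S.ι a, hJN a ha⟩).1
        (Subgroup.mem_subgroupOf.2 ⟨a, ha, rfl⟩)
      rw [hJ, Subgroup.mem_subgroupOf] at this
      simpa using this
    exact Subgroup.mem_subgroupOf.2 ⟨w, hmeet w (by rw [hw]; exact g.2), hw⟩
  have hJcube : ∀ x : N, x ∈ J → x ^ 3 = 1 := by
    intro x hx
    obtain ⟨a, ha, hax⟩ := Subgroup.mem_subgroupOf.1 hx
    apply Subtype.ext
    rw [SubgroupClass.coe_pow, ← hax, ← map_pow, Jm_cube ha, map_one]
    rfl
  have hJp : IsPGroup 3 J := fun x => ⟨1, Subtype.ext (by simpa using hJcube x x.2)⟩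
  obtain ⟨P, hP⟩ := hJp.exists_le_sylow
  have hPJ : (P : Subgroup N) = J := by
    refine le_antisymm ?_ hP
    by_contra hle
    haveI := P.isPGroup'.isNilpotent
    have hlt := Group.normalizerCondition_of_isNilpotent (J.subgroupOf (P : Subgroup N))
      (lt_top_iff_ne_top.2 fun h => hle (Subgroup.subgroupOf_eq_top.1 h))
    rw [← Subgroup.subgroupOf_normalizer_eq hP] at hlt
    obtain ⟨y, hy, hy'⟩ := SetLike.exists_of_lt hlt
    exact hy' (Subgroup.mem_subgroupOf.2 (hJnorm _ (Subgroup.mem_subgroupOf.1 hy)))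
  have hJcomm : ∀ x y : N, x ∈ J → y ∈ J → x * y = y * x := by
    intro x y hx hy
    obtain ⟨a, ha, hax⟩ := Subgroup.mem_subgroupOf.1 hx
    obtain ⟨b, hb, hby⟩ := Subgroup.mem_subgroupOf.1 hy
    apply Subtype.ext
    rw [Subgroup.coe_mul, Subgroup.coe_mul, ← hax, ← hby, ← map_mul, ← map_mul, Jm_comm ha hb]
  have hburn : Subgroup.normalizer ((P : Subgroup N) : Set N) ≤
      Subgroup.centralizer ((P : Subgroup N) : Set N) := by
    intro g hg
    rw [hPJ] at hg ⊢
    exact Subgroup.mem_centralizer_iff.2 fun x hx => hJcomm x g hx (hJnorm g hg)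
  have hcompl := MonoidHom.ker_transferSylow_isComplement' P hburn
  set M := (MonoidHom.transferSylow P hburn).ker with hM
  have hcardJ : Nat.card J = 27 := by
    rw [hJ, Nat.card_congr (Subgroup.subgroupOfEquivOfLe hJle).toEquiv,
      Subgroup.card_map_of_injective S.inj, card_Jm]
  have hMbot : M = ⊥ := by
    by_contra hMne
    haveI : IsMulCommutative J := ⟨⟨fun x y => Subtype.ext (hJcomm x y x.2 y.2)⟩⟩
    have hnc : ¬ IsCyclic J := by
      intro hc
      obtain ⟨x, hx⟩ := hc.exists_generator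
      have h1 : orderOf x = 27 := (orderOf_eq_card_of_forall_mem_zpowers hx).trans hcardJ
      have h2 : orderOf x ∣ 3 := orderOf_dvd_of_pow_eq_one (Subtype.ext (by
        simpa using hJcube x x.2))
      rw [h1] at h2
      omega
    haveI : M.Normal := MonoidHom.normal_ker _
    have hcop : (Nat.card J).Coprime (Nat.card M) := by
      have h3 : ¬ 3 ∣ (P : Subgroup N).index := P.not_dvd_index
      rw [hcompl.index_eq_card] at h3
      rw [hcardJ, show (27 : ℕ) = 3 ^ 3 by norm_num]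
      exact Nat.Coprime.pow_left 3 ((Nat.Prime.coprime_iff_not_dvd Nat.prime_three).2 h3)
    obtain ⟨x, hx, hx1, m, hm, hm1, hxm⟩ :=
      Cfsg.Agent.Components.FourPrimes.exists_fix_noncyclic hnc
        (by rw [Subgroup.normalizer_eq_top]; exact le_top) hcop hMne
    obtain ⟨a, ha, hax⟩ := Subgroup.mem_subgroupOf.1 hx
    have ha1 : a ≠ 1 := fun h => hx1 (Subtype.ext (by rw [← hax, h, map_one]; rfl))
    obtain ⟨w, hw⟩ := S.cent a (cl_of_ne_one ha ha1) (show (m : G) ∈ _ by
      rw [Subgroup.mem_centralizer_singleton_iff, hax]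
      exact (congrArg Subtype.val hxm.eq).symm)
    have hmJ : m ∈ J := Subgroup.mem_subgroupOf.2 ⟨w, hmeet w (by rw [hw]; exact m.2), hw⟩
    have := Subgroup.mem_bot.1 (hcompl.disjoint.le_bot ⟨hm, by rw [hPJ]; exact hmJ⟩)
    exact hm1 this
  have hJtop : J = ⊤ := by
    rw [← hPJ]
    have h := hcompl
    rw [hMbot] at h
    exact Subgroup.isComplement'_bot_left.1 h
  refine eq_top_iff.2 fun g _ => hnorm g fun a ha => ?_
  have hmem : (⟨_, hNn.conj_mem _ (hJN a ha) g⟩ : N) ∈ J := by rw [hJtop]; exact Subgroup.mem_top _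
  exact Subgroup.mem_subgroupOf.1 hmem

end Cfsg.Agent.RecogNine
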