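import Cfsg.Agent.RecogNine.Data

/-!
# The group of order 648 as a table group
-/

set_option autoImplicit false
set_option maxRecDepth 20000

namespace Cfsg.Agent.RecogNine

/-- An element of the group of order 648. -/
structure W where
  /-- The code of the element. -/
  c : Fin 648
deriving DecidableEq

instance instFintypeW : Fintype W :=
  ⟨(Finset.univ : Finset (Fin 648)).map ⟨W.mk, fun _ _ h => congrArg W.c h⟩,
    fun a => Finset.mem_map.2 ⟨a.c, Finset.mem_univ _, rfl⟩⟩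

def vadd (u v : ℕ) : ℕ :=
  9 * ((u / 9 + v / 9) % 3) + 3 * ((u / 3 + v / 3) % 3) + (u + v) % 3

def mulN (a b : ℕ) : ℕ :=
  24 * vadd (a / 24) (entry actT 5 (27 * (a % 24) + b / 24)) +
    entry smulT 5 (24 * (a % 24) + b % 24)

def ofN (n : ℕ) : W := ⟨Fin.ofNat 648 n⟩

@[simp] theorem ofN_c (a : W) : ofN a.c = a := by
  cases a with
  | mk c => exact congrArg W.mk (Fin.ofNat_val_eq_self c)

instance instMulW : Mul W := ⟨fun a b => ofN (mulN a.c b.c)⟩
instance instOneW : One W := ⟨ofN 0⟩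
instance instInvW : Inv W := ⟨fun a => ofN (entry invT 10 a.c)⟩

theorem mul_def (a b : W) : a * b = ofN (mulN a.c b.c) := rfl
theorem inv_def (a : W) : a⁻¹ = ofN (entry invT 10 a.c) := rfl

/-- The translation part. -/
def W.v (a : W) : Fin 27 := ⟨(a.c : ℕ) / 24, by omega⟩

/-- The complement part. -/
def W.s (a : W) : Fin 24 := ⟨(a.c : ℕ) % 24, Nat.mod_lt _ (by norm_num)⟩

/-- The translation of the blocks by `v`. -/
def tauFun (v : Fin 27) (i : Fin 9) : Fin 9 :=
  let n := if (i : ℕ) < 3 then (v : ℕ) / 9 else if (i : ℕ) < 6 then (v : ℕ) / 3 else (v : ℕ)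
  Fin.ofNat 9 (3 * ((i : ℕ) / 3) + ((i : ℕ) + n) % 3)

def vneg (v : Fin 27) : Fin 27 := Fin.ofNat 27 (vadd v v)

def vaddF (u v : Fin 27) : Fin 27 := Fin.ofNat 27 (vadd u v)
def actF (s : Fin 24) (v : Fin 27) : Fin 27 := Fin.ofNat 27 (entry actT 5 (27 * s + v))
def smulF (s t : Fin 24) : Fin 24 := Fin.ofNat 24 (entry smulT 5 (24 * s + t))

def sigFun (s : Fin 24) (i : Fin 9) : Fin 9 := Fin.ofNat 9 (entry sigT 4 (9 * s + i))
def sigInvFun (s : Fin 24) (i : Fin 9) : Fin 9 := Fin.ofNat 9 (entry sigInvT 4 (9 * s + i))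

theorem tau_inv : ∀ v i, tauFun (vneg v) (tauFun v i) = i ∧ tauFun v (tauFun (vneg v) i) = i := by
  decide +kernel

theorem sig_inv : ∀ s i, sigInvFun s (sigFun s i) = i ∧ sigFun s (sigInvFun s i) = i := by
  decide +kernel

def tau (v : Fin 27) : Equiv.Perm (Fin 9) :=
  ⟨tauFun v, tauFun (vneg v), fun i => (tau_inv v i).1, fun i => (tau_inv v i).2⟩

def sig (s : Fin 24) : Equiv.Perm (Fin 9) :=
  ⟨sigFun s, sigInvFun s, fun i => (sig_inv s i).1, fun i => (sig_inv s i).2⟩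

theorem tau_mul : ∀ u v i, tauFun u (tauFun v i) = tauFun (vaddF u v) i := by decide +kernel
theorem sig_mul : ∀ s t i, sigFun s (sigFun t i) = sigFun (smulF s t) i := by decide +kernel
theorem sig_tau : ∀ s v i, sigFun s (tauFun v i) = tauFun (actF s v) (sigFun s i) := by
  decide +kernel

theorem table_bounds : (∀ s v, entry actT 5 (27 * ((s : Fin 24) : ℕ) + (v : Fin 27)) < 27) ∧
    (∀ s t, entry smulT 5 (24 * ((s : Fin 24) : ℕ) + (t : Fin 24)) < 24) := by
  decide +kernel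

theorem vadd_lt (u v : ℕ) : vadd u v < 27 := by
  unfold vadd; omega

/-- The action on nine points. -/
def phi (a : W) : Equiv.Perm (Fin 9) := tau a.v * sig a.s

theorem mulN_lt (a b : W) : mulN a.c b.c < 648 := by
  have h1 : entry smulT 5 (24 * ((a.c : ℕ) % 24) + (b.c : ℕ) % 24) < 24 := table_bounds.2 a.s b.s
  have h2 := vadd_lt ((a.c : ℕ) / 24) (entry actT 5 (27 * ((a.c : ℕ) % 24) + (b.c : ℕ) / 24))
  unfold mulN
  omega

theorem mul_v (a b : W) : (a * b).v = vaddF a.v (actF a.s b.v) := by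
  have h1 : entry smulT 5 (24 * ((a.c : ℕ) % 24) + (b.c : ℕ) % 24) < 24 := table_bounds.2 a.s b.s
  have h3 : entry actT 5 (27 * ((a.c : ℕ) % 24) + (b.c : ℕ) / 24) < 27 := table_bounds.1 a.s b.v
  have h2 := vadd_lt ((a.c : ℕ) / 24) (entry actT 5 (27 * ((a.c : ℕ) % 24) + (b.c : ℕ) / 24))
  apply Fin.ext
  simp only [mul_def, W.v, W.s, ofN, vaddF, actF, Fin.val_ofNat, Nat.mod_eq_of_lt (mulN_lt a b),
    Nat.mod_eq_of_lt h3, Nat.mod_eq_of_lt h2]
  unfold mulN
  omega

theorem mul_s (a b : W) : (a * b).s = smulF a.s b.s := by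
  have h1 : entry smulT 5 (24 * ((a.c : ℕ) % 24) + (b.c : ℕ) % 24) < 24 := table_bounds.2 a.s b.s
  apply Fin.ext
  simp only [mul_def, W.s, ofN, smulF, Fin.val_ofNat, Nat.mod_eq_of_lt (mulN_lt a b),
    Nat.mod_eq_of_lt h1]
  unfold mulN
  omega

theorem phi_mul (a b : W) : phi (a * b) = phi a * phi b := by
  ext i
  show ((tauFun (a * b).v (sigFun (a * b).s i) : Fin 9) : ℕ) =
    (tauFun a.v (sigFun a.s (tauFun b.v (sigFun b.s i))) : Fin 9)
  rw [mul_v, mul_s, ← tau_mul, ← sig_mul, sig_tau]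

theorem inv_mul_one : ∀ a : W, a⁻¹ * a = 1 := by decide +kernel
theorem mul_one_model : ∀ a : W, a * 1 = a := by decide +kernel

theorem phi_one : phi 1 = 1 := by decide +kernel

theorem tau_sig_eq : ∀ u s t, (∀ i, tauFun u (sigFun s i) = sigFun t i) → u = 0 ∧ s = t := by
  decide +kernel

theorem vadd_neg_eq_zero : ∀ u v, vaddF (vneg v) u = 0 → u = v := by decide +kernel

theorem ext_model {a b : W} (hv : a.v = b.v) (hs : a.s = b.s) : a = b := by
  have h1 : (a.c : ℕ) / 24 = (b.c : ℕ) / 24 := congrArg (fun x : Fin 27 => (x : ℕ)) hv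
  have h2 : (a.c : ℕ) % 24 = (b.c : ℕ) % 24 := congrArg (fun x : Fin 24 => (x : ℕ)) hs
  rcases a with ⟨a⟩; rcases b with ⟨b⟩
  exact congrArg W.mk (Fin.ext (by simp only at h1 h2; omega))

theorem phi_inj {a b : W} (h : phi a = phi b) : a = b := by
  have h1 := tau_sig_eq (vaddF (vneg b.v) a.v) a.s b.s fun i => by
    have h2 : tauFun a.v (sigFun a.s i) = tauFun b.v (sigFun b.s i) := Equiv.Perm.congr_fun h i
    rw [← tau_mul, h2, (tau_inv _ _).1]
  exact ext_model (vadd_neg_eq_zero _ _ h1.1) h1.2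

instance instGroupW : Group W :=
  Group.ofLeftAxioms (fun a b c => phi_inj (by simp only [phi_mul, mul_assoc]))
    (fun a => phi_inj (by rw [phi_mul, phi_one, one_mul])) inv_mul_one

/-- The table group as permutations. -/
def phiHom : W →* Equiv.Perm (Fin 9) where
  toFun := phi
  map_one' := phi_one
  map_mul' := phi_mul

theorem phiHom_injective : Function.Injective phiHom := fun _ _ h => phi_inj h

/-- The four permutations of the statement. -/
def gens : List (Equiv.Perm (Fin 9)) :=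
  [Equiv.swap (0 : Fin 9) 1 * Equiv.swap 1 2,
   Equiv.swap (0 : Fin 9) 3 * Equiv.swap 3 6 * (Equiv.swap (1 : Fin 9) 4 * Equiv.swap 4 7) *
     (Equiv.swap (2 : Fin 9) 5 * Equiv.swap 5 8),
   Equiv.swap (0 : Fin 9) 1 * Equiv.swap 3 4,
   Equiv.swap (0 : Fin 9) 3 * Equiv.swap 1 4 * Equiv.swap 2 5 * Equiv.swap 6 7]

end Cfsg.Agent.RecogNine
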