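import Cfsg.Agent.RecogNine.Induced
import Cfsg.Agent.Lib.Characters.Inner
import Cfsg.Agent.BlocksChars.ClassAlg

/-!
# Transfer to a group containing the table group

Fusion, the isometry and the class multiplication relations.
-/

set_option autoImplicit false
set_option maxRecDepth 20000
set_option linter.style.haveILetI false

namespace Cfsg.Agent.RecogNine

open Cfsg.Agent.Characters
open Cfsg.Agent.BlocksChars.ClassAlg
open scoped ComplexConjugate

/-- The hypotheses on the embedding. -/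
structure Setting (G : Type*) [Group G] where
  /-- The embedding. -/
  ι : W →* G
  inj : Function.Injective ι
  cent : ∀ a : W, cl a ∈ [1, 3, 8] → Subgroup.centralizer ({ι a} : Set G) ≤ ι.range
  closed : ∀ (a w : W) (g : G), cl a ∈ [1, 3, 8] → g * ι a * g⁻¹ = ι w → cl w ∈ [0, 1, 3, 8]

theorem mem_centralizer_singleton' {G : Type*} [Group G] {g x : G} :
    g ∈ Subgroup.centralizer ({x} : Set G) ↔ g * x * g⁻¹ = x := by
  rw [Subgroup.mem_centralizer_singleton_iff, mul_inv_eq_iff_eq_mul]

theorem card_class (a : W) : Nat.card {g : W // IsConj a g} = sizeT.getD (cl a) 0 := by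
  classical
  rw [← count_class, Nat.card_eq_fintype_card, Fintype.card_subtype]
  congr 1
  ext g
  rw [Finset.mem_filter, Finset.mem_filter, isConj_iff_cl]
  simp [eq_comm]

theorem card_cent_model (a : W) :
    Nat.card (Subgroup.centralizer ({a} : Set W)) = centOrd (cl a) := by
  have h1 := classSize_mul_card_centralizer a
  have h2 := centOrd_mul (cl a)
  rw [classSize, card_class, show Nat.card W = 648 by
    rw [Nat.card_eq_fintype_card]; decide +kernel] at h1
  have h3 : 0 < sizeT.getD (cl a) 0 := Nat.pos_of_ne_zero fun h => by rw [h, mul_zero] at h2; omega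
  exact Nat.eq_of_mul_eq_mul_left h3 (by rw [h1, ← h2, mul_comm])

theorem centOrd_inj : ∀ c d : Fin 14, c ∈ [1, 3, 8] → d ∈ [1, 3, 8] → centOrd c = centOrd d →
    c = d := by
  decide +kernel

variable {G : Type*} [Group G] (S : Setting G)

theorem Setting.card_cent_J {a : W} (ha : cl a ∈ [1, 3, 8]) :
    Nat.card (Subgroup.centralizer ({S.ι a} : Set G)) = centOrd (cl a) := by
  rw [← card_cent_model]
  have h : Subgroup.centralizer ({S.ι a} : Set G) =
      (Subgroup.centralizer ({a} : Set W)).map S.ι := by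
    ext g
    constructor
    · intro hg
      obtain ⟨h, rfl⟩ := S.cent a ha hg
      refine ⟨h, ?_, rfl⟩
      rw [SetLike.mem_coe, mem_centralizer_singleton']
      rw [mem_centralizer_singleton', ← map_inv, ← map_mul, ← map_mul] at hg
      exact S.inj hg
    · rintro ⟨h, hh, rfl⟩
      rw [SetLike.mem_coe, mem_centralizer_singleton'] at hh
      rw [mem_centralizer_singleton', ← map_inv, ← map_mul, ← map_mul, hh]
  rw [h, Subgroup.card_map_of_injective S.inj]

/-- An element conjugating an element of a power class into the subgroup lies in it. -/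
theorem Setting.fus {x y : W} {g : G} (hx : inS (cl x) = true)
    (h : g * S.ι x * g⁻¹ = S.ι y) : g ∈ S.ι.range := by
  set k := powS (cl x) with hk
  have hj : cl (x ^ k) ∈ [1, 3, 8] := cl_powS x hx
  have hpow : g * S.ι (x ^ k) * g⁻¹ = S.ι (y ^ k) := by
    rw [map_pow, map_pow, ← h, conj_pow]
  have hj' : cl (y ^ k) ∈ [1, 3, 8] := by
    have h0 := S.closed _ _ g hj hpow
    simp only [List.mem_cons, List.not_mem_nil, or_false] at h0 hj ⊢
    rcases h0 with h0 | h0
    · exfalso
      rw [cl_eq_zero] at h0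
      rw [h0, map_one, conj_eq_one_iff, ← map_one S.ι] at hpow
      rw [S.inj hpow, (cl_eq_zero 1).2 rfl] at hj
      revert hj; decide
    · exact h0
  have hcard : centOrd (cl (x ^ k)) = centOrd (cl (y ^ k)) := by
    rw [← S.card_cent_J hj, ← S.card_cent_J hj', ← hpow]
    have : Subgroup.centralizer ({g * S.ι (x ^ k) * g⁻¹} : Set G) =
        (Subgroup.centralizer ({S.ι (x ^ k)} : Set G)).map (MulAut.conj g).toMonoidHom := by
      ext z
      rw [Subgroup.mem_map_equiv, mem_centralizer_singleton', mem_centralizer_singleton',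
        MulAut.conj_symm_apply]
      constructor
      · intro hz
        calc g⁻¹ * z * g * S.ι (x ^ k) * (g⁻¹ * z * g)⁻¹
            = g⁻¹ * (z * (g * S.ι (x ^ k) * g⁻¹) * z⁻¹) * g := by group
          _ = S.ι (x ^ k) := by rw [hz]; group
      · intro hz
        calc z * (g * S.ι (x ^ k) * g⁻¹) * z⁻¹
            = g * (g⁻¹ * z * g * S.ι (x ^ k) * (g⁻¹ * z * g)⁻¹) * g⁻¹ := by group
          _ = g * S.ι (x ^ k) * g⁻¹ := by rw [hz]
    rw [this, Subgroup.card_map_of_injective (MulEquiv.injective _)]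
  obtain ⟨h', hh'⟩ := isConj_iff.1 (isConj_iff_cl.2 (centOrd_inj _ _ hj hj' hcard))
  have hc : (S.ι h')⁻¹ * g ∈ Subgroup.centralizer ({S.ι (x ^ k)} : Set G) := by
    rw [mem_centralizer_singleton']
    calc (S.ι h')⁻¹ * g * S.ι (x ^ k) * ((S.ι h')⁻¹ * g)⁻¹
        = (S.ι h')⁻¹ * (g * S.ι (x ^ k) * g⁻¹) * S.ι h' := by group
      _ = S.ι (x ^ k) := by
        rw [hpow, ← hh', map_mul, map_mul, map_inv]; group
  obtain ⟨z, hz⟩ := S.cent _ hj hc
  exact ⟨h' * z, by rw [map_mul, hz]; group⟩

theorem Setting.isConj_iff_of_inS {x y : W} (hx : inS (cl x) = true) :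
    IsConj (S.ι x) (S.ι y) ↔ cl x = cl y := by
  constructor
  · intro h
    obtain ⟨g, hg⟩ := isConj_iff.1 h
    obtain ⟨h', rfl⟩ := S.fus hx hg
    rw [← map_inv, ← map_mul, ← map_mul] at hg
    rw [← S.inj hg, cl_conj]
  · intro h
    exact MonoidHom.map_isConj S.ι (isConj_iff_cl.2 h)

theorem Setting.card_cent_S {x : W} (hx : inS (cl x) = true) :
    Nat.card (Subgroup.centralizer ({S.ι x} : Set G)) = centOrd (cl x) := by
  rw [← card_cent_model]
  have h : Subgroup.centralizer ({S.ι x} : Set G) =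
      (Subgroup.centralizer ({x} : Set W)).map S.ι := by
    ext g
    constructor
    · intro hg
      obtain ⟨h, rfl⟩ := S.fus (y := x) hx (mem_centralizer_singleton'.1 hg)
      refine ⟨h, ?_, rfl⟩
      rw [SetLike.mem_coe, mem_centralizer_singleton']
      rw [mem_centralizer_singleton', ← map_inv, ← map_mul, ← map_mul] at hg
      exact S.inj hg
    · rintro ⟨h, hh, rfl⟩
      rw [SetLike.mem_coe, mem_centralizer_singleton'] at hh
      rw [mem_centralizer_singleton', ← map_inv, ← map_mul, ← map_mul, hh]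
  rw [h, Subgroup.card_map_of_injective S.inj]

theorem cent_tA_eighty_one : ∃ a : W, cl a = 1 ∧ a * tA = tA * a ∧ a ^ 3 = 1 ∧
    ∀ x : W, x * tA = tA * x → x * a = a * x → x ^ 81 = 1 → x = 1 ∨ x = a ∨ x = a⁻¹ := by
  decide +kernel

theorem cent_tB_three : ∃ b : W, cl b = 3 ∧ b * tB = tB * b ∧ b ^ 3 = 1 := by decide +kernel

theorem pow_eighty_one : ∀ x : W, ∀ k : Fin 8, x ^ (3 ^ (k : ℕ)) = 1 → x ^ 81 = 1 := by
  intro x k hk
  have h1 : orderOf x ∣ 3 ^ (k : ℕ) := orderOf_dvd_of_pow_eq_one hk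
  have h2 : orderOf x ∣ 648 := by
    have := orderOf_dvd_natCard x
    rwa [show Nat.card W = 648 by rw [Nat.card_eq_fintype_card]; decide +kernel] at this
  refine orderOf_dvd_iff_pow_eq_one.1 ((Nat.dvd_gcd h1 h2).trans ?_)
  fin_cases k <;> decide

variable [Finite G]

/-- The two classes of involutions are not fused. -/
theorem Setting.not_isConj_tA_tB : ¬ IsConj (S.ι tA) (S.ι tB) := by
  intro hconj
  obtain ⟨g, hg⟩ := isConj_iff.1 hconj.symm
  obtain ⟨a, ha, hat, ha3, hcent⟩ := cent_tA_eighty_one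
  obtain ⟨b, hb, hbt, hb3⟩ := cent_tB_three
  haveI : Fact (Nat.Prime 3) := ⟨Nat.prime_three⟩
  set C := Subgroup.centralizer ({S.ι tA} : Set G) with hC
  have haC : S.ι a ∈ C := by
    rw [hC, Subgroup.mem_centralizer_singleton_iff, ← map_mul, hat, map_mul]
  have hbC : g * S.ι b * g⁻¹ ∈ C := by
    rw [hC, Subgroup.mem_centralizer_singleton_iff, ← hg]
    calc g * S.ι b * g⁻¹ * (g * S.ι tB * g⁻¹) = g * (S.ι b * S.ι tB) * g⁻¹ := by group
      _ = g * (S.ι tB * S.ι b) * g⁻¹ := by rw [← map_mul, hbt, map_mul]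
      _ = g * S.ι tB * g⁻¹ * (g * S.ι b * g⁻¹) := by group
  let A : C := ⟨S.ι a, haC⟩
  let B : C := ⟨g * S.ι b * g⁻¹, hbC⟩
  have hA3 : A ^ 3 = 1 := Subtype.ext (by
    show S.ι a ^ 3 = 1
    rw [← map_pow, ha3, map_one])
  have hB3 : B ^ 3 = 1 := Subtype.ext (by
    show (g * S.ι b * g⁻¹) ^ 3 = 1
    rw [conj_pow, ← map_pow, hb3, map_one]; group)
  have hpA : IsPGroup 3 (Subgroup.zpowers A) := by
    intro z
    obtain ⟨n, hn⟩ := Subgroup.mem_zpowers_iff.1 z.2
    refine ⟨1, Subtype.ext ?_⟩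
    rw [SubgroupClass.coe_pow, ← hn, ← zpow_natCast (A ^ n), ← zpow_mul, mul_comm, zpow_mul,
      zpow_natCast, pow_one, hA3, one_zpow]
    rfl
  have hpB : IsPGroup 3 (Subgroup.zpowers B) := by
    intro z
    obtain ⟨n, hn⟩ := Subgroup.mem_zpowers_iff.1 z.2
    refine ⟨1, Subtype.ext ?_⟩
    rw [SubgroupClass.coe_pow, ← hn, ← zpow_natCast (B ^ n), ← zpow_mul, mul_comm, zpow_mul,
      zpow_natCast, pow_one, hB3, one_zpow]
    rfl
  obtain ⟨P, hP⟩ := hpA.exists_le_sylow
  obtain ⟨P', hP'⟩ := hpB.exists_le_sylow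
  have hmem : ∀ y : C, y ∈ Subgroup.zpowers A → y = 1 ∨ y = A ∨ y = A⁻¹ := by
    intro y hy
    obtain ⟨n, rfl⟩ := Subgroup.mem_zpowers_iff.1 hy
    have h3 : A ^ n = A ^ (n % 3) := by
      conv_lhs => rw [← Int.emod_add_mul_ediv n 3, zpow_add, zpow_mul]
      rw [show A ^ (3 : ℤ) = 1 by exact_mod_cast hA3, one_zpow, mul_one]
    have h4 : n % 3 = 0 ∨ n % 3 = 1 ∨ n % 3 = 2 := by omega
    rw [h3]
    rcases h4 with h4 | h4 | h4 <;> rw [h4]
    · exact Or.inl (zpow_zero _)
    · exact Or.inr (Or.inl (zpow_one _))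
    · refine Or.inr (Or.inr (eq_inv_of_mul_eq_one_left ?_))
      rw [← hA3, show (2 : ℤ) = ((2 : ℕ) : ℤ) by rfl, zpow_natCast, ← pow_succ]
  have hPA : (P : Subgroup C) = Subgroup.zpowers A := by
    refine le_antisymm ?_ hP
    by_contra hle
    haveI := P.isPGroup'.isNilpotent
    have hAP : (Subgroup.zpowers A).subgroupOf (P : Subgroup C) ≠ ⊤ := fun h =>
      hle (Subgroup.subgroupOf_eq_top.1 h)
    have hlt := Group.normalizerCondition_of_isNilpotent
      ((Subgroup.zpowers A).subgroupOf (P : Subgroup C)) (lt_top_iff_ne_top.2 hAP)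
    obtain ⟨y, hy, hy'⟩ := SetLike.exists_of_lt hlt
    rw [Subgroup.mem_subgroupOf] at hy'
    apply hy'
    have hA0 : (⟨A, hP (Subgroup.mem_zpowers A)⟩ : (P : Subgroup C)) ∈
        (Subgroup.zpowers A).subgroupOf (P : Subgroup C) := by
      rw [Subgroup.mem_subgroupOf]; exact Subgroup.mem_zpowers A
    have hyA := (Subgroup.mem_normalizer_iff.1 hy _).1 hA0
    rw [Subgroup.mem_subgroupOf] at hyA
    simp only [Subgroup.coe_mul, Subgroup.coe_inv] at hyA
    obtain ⟨k, hk⟩ := P.isPGroup' y
    have hyk : ((y : C)) ^ 3 ^ k = 1 := by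
      have := congrArg (fun z : (P : Subgroup C) => (z : C)) hk
      simpa using this
    have hcomm : (y : C) * A * (y : C)⁻¹ = A := by
      rcases hmem _ hyA with h | h | h
      · exfalso
        rw [conj_eq_one_iff] at h
        have h5 : S.ι a = 1 := congrArg Subtype.val h
        rw [← map_one S.ι] at h5
        rw [S.inj h5, (cl_eq_zero 1).2 rfl] at ha
        revert ha; decide
      · exact h
      · have h2 : ∀ m : ℕ, (y : C) ^ (2 * m) * A * ((y : C) ^ (2 * m))⁻¹ = A := by
          intro m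
          induction m with
          | zero => simp
          | succ m ih =>
            have h6 : (y : C) * A⁻¹ * (y : C)⁻¹ = A := by
              rw [← conj_inv, h, inv_inv]
            rw [show (y : C) ^ (2 * (m + 1)) = (y : C) * ((y : C) * (y : C) ^ (2 * m)) by
              rw [← pow_succ', ← pow_succ']; congr 1]
            calc (y : C) * ((y : C) * (y : C) ^ (2 * m)) * A *
                  ((y : C) * ((y : C) * (y : C) ^ (2 * m)))⁻¹
                = (y : C) * ((y : C) * ((y : C) ^ (2 * m) * A * ((y : C) ^ (2 * m))⁻¹) *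
                    (y : C)⁻¹) * (y : C)⁻¹ := by group
              _ = (y : C) * A⁻¹ * (y : C)⁻¹ := by rw [ih, h]
              _ = A := h6
        obtain ⟨m, hm⟩ : Odd (3 ^ k) := Odd.pow (by decide)
        have h7 := h2 (m + 1)
        rw [show 2 * (m + 1) = 3 ^ k + 1 by omega, pow_succ, hyk, one_mul] at h7
        exact h7
    have hyG : ((y : C) : G) * S.ι a * ((y : C) : G)⁻¹ = S.ι a := congrArg Subtype.val hcomm
    obtain ⟨x, hx⟩ := S.fus (x := a) (y := a) (by rw [ha]; decide) hyG
    have hxt : x * tA = tA * x := by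
      apply S.inj
      rw [map_mul, map_mul, hx]
      exact Subgroup.mem_centralizer_singleton_iff.1 (y : C).2
    have hxa : x * a = a * x := by
      apply S.inj
      rw [map_mul, map_mul, hx]
      rw [mul_inv_eq_iff_eq_mul] at hyG
      exact hyG
    have hxk : x ^ 3 ^ k = 1 := by
      apply S.inj
      rw [map_pow, hx, map_one, ← SubgroupClass.coe_pow, hyk]
      rfl
    have hx81 : x ^ 81 = 1 := by
      have h1 : orderOf x ∣ 3 ^ k := orderOf_dvd_of_pow_eq_one hxk
      obtain ⟨i, hi, hix⟩ := (Nat.dvd_prime_pow Nat.prime_three).1 h1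
      have hi8 : i < 8 := by
        by_contra hc
        have h648 : orderOf x ∣ 648 := by
          have := orderOf_dvd_natCard x
          rwa [show Nat.card W = 648 by rw [Nat.card_eq_fintype_card]; decide +kernel] at this
        have := Nat.le_of_dvd (by norm_num) h648
        have := Nat.pow_le_pow_right (show 1 ≤ 3 by norm_num) (show 8 ≤ i by omega)
        omega
      exact pow_eighty_one x ⟨i, hi8⟩ (by rw [← hix]; exact pow_orderOf_eq_one x)
    have hyA' : (y : C) = 1 ∨ (y : C) = A ∨ (y : C) = A⁻¹ := by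
      rcases hcent x hxt hxa hx81 with h | h | h
      · left; apply Subtype.ext; rw [← hx, h, map_one]; rfl
      · right; left; apply Subtype.ext; rw [← hx, h]
      · right; right; apply Subtype.ext; rw [← hx, h, map_inv]; rfl
    rcases hyA' with h | h | h <;> rw [h]
    · exact one_mem _
    · exact Subgroup.mem_zpowers A
    · exact inv_mem (Subgroup.mem_zpowers A)
  obtain ⟨c, hc⟩ := MulAction.exists_smul_eq C P' P
  have h1 : c * B * c⁻¹ ∈ Subgroup.zpowers A := by
    rw [← hPA, ← hc, Sylow.coe_subgroup_smul, Subgroup.mem_pointwise_smul_iff_inv_smul_mem]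
    simpa [MulAut.smul_def, mul_assoc] using hP' (Subgroup.mem_zpowers B)
  have key : ∀ z : W, ((c : C) : G) * (g * S.ι b * g⁻¹) * ((c : C) : G)⁻¹ = S.ι z → cl z = 3 := by
    intro z hz
    have h2 : ((c : C) : G) * g * S.ι b * (((c : C) : G) * g)⁻¹ = S.ι z := by rw [← hz]; group
    rw [← (S.isConj_iff_of_inS (by rw [hb]; decide)).1 (isConj_iff.2 ⟨_, h2⟩), hb]
  have hv : ∀ Z : C, c * B * c⁻¹ = Z →
      ((c : C) : G) * (g * S.ι b * g⁻¹) * ((c : C) : G)⁻¹ = (Z : G) := by
    intro Z hZ; rw [← hZ]; rfl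
  rcases hmem _ h1 with h | h | h
  · have := key 1 (by rw [hv _ h, map_one]; rfl)
    rw [(cl_eq_zero 1).2 rfl] at this
    revert this; decide
  · have := key a (hv _ h)
    rw [ha] at this
    revert this; decide
  · have := key a⁻¹ (by rw [hv _ h, map_inv]; rfl)
    rw [cl_inv, ha] at this
    revert this; decide

/-- The class of an involution of the subgroup in the whole group. -/
theorem Setting.isConj_invol {X : Fin 14} (hX : X ∈ [2, 6]) (u : W) :
    IsConj (S.ι (rep X)) (S.ι u) ↔ cl u = X := by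
  refine ⟨fun h => ?_, fun h => MonoidHom.map_isConj S.ι (isConj_iff_cl.2 (by rw [cl_rep, h]))⟩
  have hu : cl u ∈ [2, 6] := by
    obtain ⟨g, hg⟩ := isConj_iff.1 h
    have hr := (involution_iff (rep X)).2 (by rw [cl_rep]; exact hX)
    refine (involution_iff u).1 ⟨fun hu => hr.1 ?_, ?_⟩
    · rw [hu, map_one, conj_eq_one_iff, ← map_one S.ι] at hg
      exact S.inj hg
    · apply S.inj
      rw [map_mul, ← hg, map_one]
      calc g * S.ι (rep X) * g⁻¹ * (g * S.ι (rep X) * g⁻¹)
          = g * S.ι (rep X * rep X) * g⁻¹ := by rw [map_mul]; group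
        _ = 1 := by rw [hr.2, map_one]; group
  have hnot := S.not_isConj_tA_tB
  simp only [List.mem_cons, List.not_mem_nil, or_false] at hX hu
  rcases hX with rfl | rfl <;> rcases hu with hu | hu
  · exact hu
  · exact absurd (h.trans (MonoidHom.map_isConj S.ι (isConj_iff_cl.2 (by rw [hu]; exact (cl_rep _).symm)))) hnot
  · exact absurd (h.trans (MonoidHom.map_isConj S.ι (isConj_iff_cl.2 (by rw [hu]; exact (cl_rep _).symm)))).symm hnot
  · exact hu

end Cfsg.Agent.RecogNine
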